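import Cfsg.Agent.Omega.EH3.ETwo.V0

/-!
# THEOREM E2, steps (5), (6): every point is pure; `V₀` is invariant
-/

set_option autoImplicit false
set_option linter.unusedSectionVars false

namespace Cfsg.Agent.Omega.EH3.ETwo.Pure

open Module Cfsg.Agent.Omega.EH3.ETwo.Base Cfsg.Agent.Omega.EH3.ETwo.Type
  Cfsg.Agent.Omega.EH3.ETwo.Map Cfsg.Agent.Omega.EH3.ETwo.Opp Cfsg.Agent.Omega.EH3.ETwo.V0

variable {H V : Type*} [Group H] [AddCommGroup V] [Module (ZMod 2) V] [Module F4 V]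
  {ρ : H →* (V ≃ₗ[ZMod 2] V)} {b : LinearMap.BilinForm (ZMod 2) V} {q : V → ZMod 2} {w : ℕ}
  {a c : V} {D E : Submodule (ZMod 2) V} {X Y : Subgroup H} {m : F4}

theorem finrank_ker [Finite V] (U : Submodule (ZMod 2) V) (φ : V →ₗ[ZMod 2] ZMod 2) :
    finrank (ZMod 2) U ≤ finrank (ZMod 2) (U ⊓ LinearMap.ker φ : Submodule (ZMod 2) V) + 1 := by
  have h := LinearMap.finrank_range_add_finrank_ker (φ.domRestrict U)
  have h1 : finrank (ZMod 2) (LinearMap.range (φ.domRestrict U)) ≤ 1 := by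
    have := Submodule.finrank_le (LinearMap.range (φ.domRestrict U))
    rwa [finrank_self] at this
  have h2 : finrank (ZMod 2) (LinearMap.ker (φ.domRestrict U)) =
      finrank (ZMod 2) (U ⊓ LinearMap.ker φ : Submodule (ZMod 2) V) := by
    have e1 : (LinearMap.ker (φ.domRestrict U)).map U.subtype = U ⊓ LinearMap.ker φ := by
      ext v
      rw [Submodule.mem_map, Submodule.mem_inf, LinearMap.mem_ker]
      constructor
      · rintro ⟨⟨x, hx⟩, h1, rfl⟩
        exact ⟨hx, h1⟩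
      · rintro ⟨hx, h1⟩
        exact ⟨⟨v, hx⟩, h1, rfl⟩
    rw [← e1]
    exact (LinearEquiv.finrank_eq (Submodule.equivMapOfInjective _ U.injective_subtype _))
  omega

variable (O : Op ρ b q w a c D E X Y m)
include O

theorem Qf_zero : Qf ρ a c Y m (0 : V) = 0 := by
  have h := Qf_add O D.zero_mem (show Perp b c (0 : V) from (perp b c).zero_mem) D.zero_mem
    (show Perp b c (0 : V) from (perp b c).zero_mem)
  have h1 : gf b (0 : V) 0 = 0 := by rw [gf, map_zero]
  rw [add_zero, h1, add_zero, CharTwo.add_self_eq_zero] at h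
  exact h

/-- **Lemma Z** -/
theorem exists_Z {u : V} (hu : u ∈ D) (hp : Perp b c u) :
    ∃ u' ∈ D, Perp b c u' ∧ u' ≠ 0 ∧ u' ≠ u ∧ gf b u u' = 0 ∧ Qf ρ a c Y m u' = 0 := by
  classical
  have _ := O.A.fin
  set W : Submodule (ZMod 2) V := D ⊓ perp b c ⊓ LinearMap.ker (b (F4.w • u)) with hW
  have hWr : 4 ≤ finrank (ZMod 2) W := by
    have h1 := finrank_ker (D ⊓ perp b c) (b (F4.w • u))
    have h2 := finrank_inf O.A O.P c
    have h3 := O.A.seven
    rw [hW]
    omega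
  have hex : ∀ s : Finset V, s.card ≤ 3 → ∃ t ∈ W, t ∉ Submodule.span (ZMod 2) (s : Set V) := by
    intro s hs
    by_contra hc
    push Not at hc
    have h1 := Submodule.finrank_mono (show W ≤ Submodule.span (ZMod 2) (s : Set V) from hc)
    have h2 : finrank (ZMod 2) (Submodule.span (ZMod 2) (s : Set V)) ≤ s.card :=
      finrank_span_finset_le_card (R := ZMod 2) s
    omega
  obtain ⟨t1, ht1, h1⟩ := hex {u} (by simp)
  obtain ⟨t2, ht2, h2⟩ := hex {u, t1} (Finset.card_le_two.trans (by norm_num))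
  obtain ⟨t3, ht3, h3⟩ := hex {u, t1, t2} Finset.card_le_three
  by_contra hcon
  push Not at hcon
  have hQ : ∀ t ∈ W, t ≠ 0 → t ≠ u → Qf ρ a c Y m t = 1 := by
    intro t ht h4 h5
    exact (z2 _).resolve_left (hcon t ht.1.1 ht.1.2 h4 h5 ht.2)
  have m1u : u ∈ Submodule.span (ZMod 2) ((({u} : Finset V)) : Set V) := Submodule.subset_span (by simp)
  have m2u : u ∈ Submodule.span (ZMod 2) ((({u, t1} : Finset V)) : Set V) := Submodule.subset_span (by simp)
  have m21 : t1 ∈ Submodule.span (ZMod 2) ((({u, t1} : Finset V)) : Set V) := Submodule.subset_span (by simp)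
  have m3u : u ∈ Submodule.span (ZMod 2) ((({u, t1, t2} : Finset V)) : Set V) := Submodule.subset_span (by simp)
  have m31 : t1 ∈ Submodule.span (ZMod 2) ((({u, t1, t2} : Finset V)) : Set V) := Submodule.subset_span (by simp)
  have m32 : t2 ∈ Submodule.span (ZMod 2) ((({u, t1, t2} : Finset V)) : Set V) := Submodule.subset_span (by simp)
  have gen : ∀ (s : Finset V) (t x : V), t ∉ Submodule.span (ZMod 2) (s : Set V) →
      u ∈ Submodule.span (ZMod 2) (s : Set V) → x ∈ Submodule.span (ZMod 2) (s : Set V) → t ∈ W → x ∈ W →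
      Qf ρ a c Y m (x + t) = 1 := by
    intro s t x ht hus hx htW hxW
    apply hQ _ (W.add_mem hxW htW)
    · intro h
      exact ht ((eq_of_add h) ▸ hx)
    · intro h
      apply ht
      have : t = x + u := by rw [← h, self_add_add]
      rw [this]
      exact Submodule.add_mem _ hx hus
  have e1 : Qf ρ a c Y m t1 = 1 := by
    have := gen _ t1 0 h1 m1u (Submodule.zero_mem _) ht1 W.zero_mem
    rwa [zero_add] at this
  have e2 : Qf ρ a c Y m t2 = 1 := by
    have := gen _ t2 0 h2 m2u (Submodule.zero_mem _) ht2 W.zero_mem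
    rwa [zero_add] at this
  have e3 : Qf ρ a c Y m t3 = 1 := by
    have := gen _ t3 0 h3 m3u (Submodule.zero_mem _) ht3 W.zero_mem
    rwa [zero_add] at this
  have e12 := gen _ t2 t1 h2 m2u m21 ht2 ht1
  have e13 := gen _ t3 t1 h3 m3u m31 ht3 ht1
  have e23 := gen _ t3 t2 h3 m3u m32 ht3 ht2
  have e123 := gen _ t3 (t1 + t2) h3 m3u (Submodule.add_mem _ m31 m32) ht3 (W.add_mem ht1 ht2)
  rw [Qf_add O (D.add_mem ht1.1.1 ht2.1.1) (perp_add ht1.1.2 ht2.1.2) ht3.1.1 ht3.1.2, gf_add_left, e12,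
    e3] at e123
  rw [Qf_add O ht1.1.1 ht1.1.2 ht2.1.1 ht2.1.2, e1, e2] at e12
  rw [Qf_add O ht1.1.1 ht1.1.2 ht3.1.1 ht3.1.2, e1, e3] at e13
  rw [Qf_add O ht2.1.1 ht2.1.2 ht3.1.1 ht3.1.2, e2, e3] at e23
  have : ∀ x y z : ZMod 2, 1 + 1 + y = 1 → 1 + 1 + z = 1 → 1 + 1 + (y + z) = 1 → False := by decide
  exact this 0 _ _ e13 e23 e123

omit O in
/-- the stabiliser of `V₀` in `C_H(F)` -/
def M1 (ρ : H →* (V ≃ₗ[ZMod 2] V)) (W : Submodule (ZMod 2) V) : Subgroup H where
  carrier := {k | Lin ρ k ∧ ∀ v, ρ k v ∈ W ↔ v ∈ W}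
  one_mem' := ⟨Lin.one, fun v => by rw [ρ_one]⟩
  mul_mem' := by
    rintro g h ⟨hg, hg'⟩ ⟨hh, hh'⟩
    exact ⟨hg.mul hh, fun v => by rw [ρ_mul, hg', hh']⟩
  inv_mem' := by
    rintro g ⟨hg, hg'⟩
    exact ⟨hg.inv, fun v => by rw [← hg', ρ_inv']⟩

omit O in
/-- the vectors of `a^{M₁}` -/
def Good (ρ : H →* (V ≃ₗ[ZMod 2] V)) (W : Submodule (ZMod 2) V) (a v : V) : Prop := ∃ k ∈ M1 ρ W, ρ k a = v

theorem X_M1 {y : H} (hy : y ∈ X) : y ∈ M1 ρ (V0 b a c D m) :=
  ⟨O.P.lin y hy, fun v => ⟨fun h => by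
    have := X_V0 O hy h
    rwa [O.P.twice hy] at this, X_V0 O hy⟩⟩

theorem Y_M1 {y : H} (hy : y ∈ Y) : y ∈ M1 ρ (V0 b a c D m) :=
  ⟨O.Q.lin y hy, fun v => ⟨fun h => by
    have := Y_V0 O hy h
    rwa [O.Q.twice hy] at this, Y_V0 O hy⟩⟩

omit O in
theorem good_a : Good ρ (V0 b a c D m) a a := ⟨1, Subgroup.one_mem _, ρ_one a⟩

theorem good_add {u : V} (hu : u ∈ D) (hp : Perp b c u) :
    Good ρ (V0 b a c D m) a (a + u + Qf ρ a c Y m u • (m • c)) := by
  obtain ⟨s, hs, h⟩ := Qf_spec O hu hp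
  exact ⟨s, Y_M1 O hs, h⟩

theorem good_add_zero {u : V} (hu : u ∈ D) (hp : Perp b c u) (hQ : Qf ρ a c Y m u = 0) :
    ∃ s ∈ Y, ρ s a = a + u := by
  obtain ⟨s, hs, h⟩ := Qf_spec O hu hp
  rw [hQ, zero_smul, add_zero] at h
  exact ⟨s, hs, h⟩

theorem good_U {u : V} (hu : u ∈ D) (hp : Perp b c u) (hQ : Qf ρ a c Y m u = 0) (h0 : u ≠ 0) :
    Good ρ (V0 b a c D m) a u := by
  obtain ⟨s, hs, h⟩ := good_add_zero O hu hp hQ
  obtain ⟨y, hy, h1⟩ := O.P.exists_move hu (fun l hl => by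
    rw [hl] at hp
    have := O.perp_ca hp
    rw [this, zero_smul] at hl
    exact h0 hl)
  refine ⟨y * s, Subgroup.mul_mem _ (X_M1 O hy) (Y_M1 O hs), ?_⟩
  rw [ρ_mul, h, map_add, O.P.fix y hy, h1, add_comm u, self_add_add]

/-- Step A -/
theorem exists_good_perp (e : V) : ∃ v, Good ρ (V0 b a c D m) a v ∧ Perp b e v := by
  obtain ⟨u1, hu1, hp1, h1, -, -, hQ1⟩ :=
    exists_Z O D.zero_mem (show Perp b c (0 : V) from (perp b c).zero_mem)
  obtain ⟨u2, hu2, hp2, h2, h12, hg, hQ2⟩ := exists_Z O hu1 hp1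
  have key : ∀ x1 x2 x3 y1 y2 y3 : ZMod 2, ∃ α β γ : ZMod 2, (α ≠ 0 ∨ β ≠ 0 ∨ γ ≠ 0) ∧
      α * x1 + (β * x2 + γ * x3) = 0 ∧ α * y1 + (β * y2 + γ * y3) = 0 := by decide
  obtain ⟨α, β, γ, hne, e1, e2⟩ := key (b e a) (b e u1) (b e u2) (b (F4.w • e) a) (b (F4.w • e) u1)
    (b (F4.w • e) u2)
  have hQ12 : Qf ρ a c Y m (u1 + u2) = 0 := by
    rw [Qf_add O hu1 hp1 hu2 hp2, hQ1, hQ2, hg, add_zero, add_zero]
  have h12' : u1 + u2 ≠ 0 := fun h => h12 (eq_of_add h).symm
  refine ⟨α • a + (β • u1 + γ • u2), ?_, ?_⟩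
  · have hall : Qf ρ a c Y m (β • u1 + γ • u2) = 0 ∧
        ((β ≠ 0 ∨ γ ≠ 0) → β • u1 + γ • u2 ≠ 0) := by
      rcases z2 β with rfl | rfl <;> rcases z2 γ with rfl | rfl
      · rw [zero_smul, zero_smul, add_zero]
        exact ⟨Qf_zero O, fun h => by rcases h with h | h <;> exact absurd rfl h⟩
      · rw [zero_smul, zero_add, one_smul]; exact ⟨hQ2, fun _ => h2⟩
      · rw [zero_smul, add_zero, one_smul]; exact ⟨hQ1, fun _ => h1⟩
      · rw [one_smul, one_smul]; exact ⟨hQ12, fun _ => h12'⟩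
    have hD : β • u1 + γ • u2 ∈ D := D.add_mem (D.smul_mem _ hu1) (D.smul_mem _ hu2)
    have hP : Perp b c (β • u1 + γ • u2) := perp_add ((perp b c).smul_mem _ hp1) ((perp b c).smul_mem _ hp2)
    rcases z2 α with rfl | rfl
    · rw [zero_smul, zero_add]
      refine good_U O hD hP hall.1 (hall.2 ?_)
      rcases hne with h | h | h
      · exact absurd rfl h
      · exact Or.inl h
      · exact Or.inr h
    · rw [one_smul]
      obtain ⟨s, hs, h⟩ := good_add_zero O hD hP hall.1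
      exact ⟨s, Y_M1 O hs, h⟩
  · apply perp_of_two O.A.toAmb0
    · rw [map_add, map_add, map_smul, map_smul, map_smul]
      exact e1
    · have h3 : ∀ (k : ZMod 2) (v : V), b (F4.w • e) (k • v) = k * b (F4.w • e) v := fun k v =>
        (b (F4.w • e)).map_smul k v
      rw [map_add, map_add, h3, h3, h3]
      exact e2

/-- Step B, normalised -/
theorem pure_perp {e : V} {De : Submodule (ZMod 2) V} {Xe : Subgroup H} (Pe : Pt ρ b q w e De Xe)
    (hpe : Perp b a e) : ∃ l : F4, l ≠ 0 ∧ l • e ∈ V0 b a c D m := by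
  by_cases hne : ∀ l : F4, e ≠ l • a
  swap
  · push Not at hne
    obtain ⟨l, hl⟩ := hne
    have hl0 : l ≠ 0 := by
      rintro rfl
      rw [zero_smul] at hl
      exact Pe.ne hl
    refine ⟨l⁻¹, inv_ne_zero hl0, ?_⟩
    rw [hl, inv_smul_smul₀ hl0]
    exact a_mem
  obtain ⟨l, hl0, hl⟩ := type_one O.A O.P Pe hpe hne
  obtain ⟨α, u0, hu0, hp0, hle⟩ := dec_D O hl
  by_cases hα : im α = 0
  · refine ⟨l, hl0, ?_⟩
    rw [hle, smul_reim, hα, zero_smul, smul_zero, add_zero]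
    exact (V0 b a c D m).add_mem ((V0 b a c D m).smul_mem _ a_mem) (U_mem hu0 hp0)
  exfalso
  have hu00 : u0 ≠ 0 := by
    rintro rfl
    rw [add_zero] at hle
    apply hne (l⁻¹ * α)
    rw [mul_smul, ← hle, inv_smul_smul₀ hl0]
  obtain ⟨u', hu', hp', h0', hne', hg, hQ⟩ := exists_Z O hu0 hp0
  obtain ⟨s, hs, hsa⟩ := good_add_zero O hu' hp' hQ
  have P' := Map.map O.A O.P s (Or.inl (O.Q.lin s hs))
  have he : e = (l⁻¹ * α) • a + l⁻¹ • u0 := by
    have := congrArg (fun x => l⁻¹ • x) hle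
    simp only [inv_smul_smul₀ hl0, smul_add, smul_smul] at this
    exact this
  have hpe' : Perp b (ρ s a) e := by
    rw [hsa]
    apply O.A.perp_symm
    apply perp_add (O.A.perp_symm hpe)
    intro k
    rw [he, smul_add, map_add, LinearMap.add_apply, smul_smul, smul_smul]
    have e1 : b ((k * (l⁻¹ * α)) • a) u' = 0 := O.P.perpD hu' _
    have e2 : b ((k * l⁻¹) • u0) u' = 0 := by
      rw [b_smul O (U_mem hu0 hp0) (U_mem hu' hp'), hg, mul_zero]
    rw [e1, e2, add_zero]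
  -- comparison of coordinates
  have key : ∀ {x y z : ZMod 2}, x • a + y • u0 + z • u' = 0 → x = 0 ∧ y = 0 ∧ z = 0 := by
    intro x y z h
    have hx : x = 0 := by
      rcases z2 x with h1 | h1
      · exact h1
      · exfalso
        rw [h1, one_smul, add_assoc] at h
        have h2 := eq_of_add h
        have h3 : Perp b c a := by
          rw [h2]
          exact perp_add ((perp b c).smul_mem _ hp0) ((perp b c).smul_mem _ hp')
        have h4 := h3 1
        rw [one_smul, O.A.comm, O.one] at h4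
        exact one_ne_zero h4
    rw [hx, zero_smul, zero_add] at h
    refine ⟨hx, ?_⟩
    rcases z2 y with rfl | rfl <;> rcases z2 z with rfl | rfl
    · exact ⟨rfl, rfl⟩
    · rw [zero_smul, zero_add, one_smul] at h; exact absurd h h0'
    · rw [zero_smul, add_zero, one_smul] at h; exact absurd h hu00
    · rw [one_smul, one_smul] at h; exact absurd (eq_of_add h).symm hne'
  have hne2 : ∀ k : F4, e ≠ k • ρ s a := by
    intro k hk
    rw [hsa] at hk
    have h1 : (α + l * k) • a + (1 : F4) • u0 + (l * k) • u' ∈ V0 b a c D m := by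
      have h2 : (α + l * k) • a + (1 : F4) • u0 + (l * k) • u' = 0 := by
        have h3 : l • e = (l * k) • a + (l * k) • u' := by rw [hk, smul_add, smul_add, smul_smul, smul_smul]
        have h4 := self_add (l • e)
        nth_rewrite 1 [hle] at h4
        rw [h3] at h4
        rw [← h4, add_smul, one_smul]; abel
      rw [h2]; exact Submodule.zero_mem _
    obtain ⟨h2, h3, h4⟩ := key (im_three O a_mem (U_mem hu0 hp0) (U_mem hu' hp') h1)
    have h5 : ∀ α k : F4, im (α + k) = im α + im k := by decide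
    rw [h5, h4, add_zero] at h2
    exact hα h2
  obtain ⟨l', hl0', hl'⟩ := type_one O.A P' Pe hpe' hne2
  obtain ⟨d, hd, hd'⟩ := hl'
  obtain ⟨k, u2, hu2, hp2, rfl⟩ := dec_D O hd
  change ρ s (k • a + u2) = l' • e at hd'
  rw [map_add, O.Q.lin s hs, hsa] at hd'
  have hv := Y_V0 O hs (U_mem (a := a) (m := m) hu2 hp2)
  have h1 : (l' * l⁻¹ * α + k) • a + (l' * l⁻¹) • u0 + k • u' ∈ V0 b a c D m := by
    have h2 : (l' * l⁻¹ * α + k) • a + (l' * l⁻¹) • u0 + k • u' = ρ s u2 := by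
      have h3 := self_add (l' • e)
      nth_rewrite 2 [← hd'] at h3
      rw [he, smul_add, smul_smul, smul_smul, smul_add, ← mul_assoc] at h3
      apply eq_of_add
      rw [← h3, add_smul]; abel
    rw [h2]; exact hv
  obtain ⟨h2, h3, h4⟩ := key (im_three O a_mem (U_mem hu0 hp0) (U_mem hu' hp') h1)
  have h5 : ∀ (l l' α k : F4), l ≠ 0 → l' ≠ 0 → im (l' * l⁻¹ * α + k) = 0 → im (l' * l⁻¹) = 0 → im k = 0 →
      im α = 0 := by decide
  exact hα (h5 l l' α k hl0 hl0' h2 h3 h4)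

/-- Step B: every point is pure -/
theorem isPure {e : V} {De : Submodule (ZMod 2) V} {Xe : Subgroup H} (Pe : Pt ρ b q w e De Xe) :
    ∃ l : F4, l ≠ 0 ∧ l • e ∈ V0 b a c D m := by
  obtain ⟨v, ⟨k, ⟨hk, hk'⟩, rfl⟩, hv⟩ := exists_good_perp O e
  have P1 := Map.map O.A Pe k⁻¹ (Or.inl hk.inv)
  have h1 : Perp b a (ρ k⁻¹ e) := by
    intro l
    have h2 := O.A.perp_symm hv l
    rwa [← O.A.b_inv k⁻¹, ← hk, ρ_inv] at h2
  obtain ⟨l, hl0, hl⟩ := pure_perp O P1 h1
  refine ⟨l, hl0, ?_⟩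
  have h2 := (hk' _).2 hl
  rwa [hk, ρ_inv'] at h2

/-- `ρ y v₁ ∈ V₀` for good `v₁` -/
theorem good_stab {e : V} {De : Submodule (ZMod 2) V} {Xe : Subgroup H} (Pe : Pt ρ b q w e De Xe)
    {y : H} (hy : y ∈ Xe) {v1 : V} (hg : Good ρ (V0 b a c D m) a v1) : ρ y v1 ∈ V0 b a c D m := by
  set W := V0 b a c D m with hW
  obtain ⟨l, hl0, hl⟩ := isPure O Pe
  obtain ⟨k1, ⟨hk1, hk1'⟩, rfl⟩ := hg
  set v1 := ρ k1 a with hv1
  have hv1W : v1 ∈ W := (hk1' _).2 a_mem
  have hv10 : v1 ≠ 0 := by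
    intro h
    apply O.P.ne
    apply (ρ k1).injective
    rw [map_zero]; exact h
  have P2 := Map.map O.A O.P (y * k1) (Or.inl ((Pe.lin y hy).mul hk1))
  obtain ⟨l2, hl2, hl2W⟩ := isPure O P2
  rw [ρ_mul, ← hv1] at hl2W
  set v := l • e with hv
  have he : ∀ k : F4, k • e = (k * l⁻¹) • v := by
    intro k
    rw [hv, smul_smul, mul_assoc, inv_mul_cancel₀ hl0, mul_one]
  have hv0 : v ≠ 0 := by
    intro h
    rcases smul_eq_zero.1 h with h1 | h1
    · exact hl0 h1
    · exact Pe.ne h1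
  have hyv : ∀ k : F4, ρ y (k • v) = k • v := by
    intro k
    rw [hv, smul_smul]; exact Pe.fixF hy _
  have him1 : ∀ l : F4, l ≠ 0 → im l = 0 → l = 1 := by decide
  by_cases hp : Perp b e v1
  · obtain ⟨l', hl'⟩ := Pe.delta O.A hp hy
    rw [he] at hl'
    set κ := l' * l⁻¹ with hκ
    by_cases h1 : v1 = v
    · have := hyv 1
      rw [one_smul] at this
      rw [h1, this]; exact hl
    · rw [hl', smul_add, smul_smul] at hl2W
      have h2 := im_two O hv1W hl hl2W
      have h3 : im l2 = 0 ∧ im (l2 * κ) = 0 := by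
        rcases z2 (im l2) with h4 | h4 <;> rcases z2 (im (l2 * κ)) with h5 | h5
        · exact ⟨h4, h5⟩
        · rw [h4, h5, zero_smul, zero_add, one_smul] at h2; exact absurd h2 hv0
        · rw [h4, h5, zero_smul, add_zero, one_smul] at h2; exact absurd h2 hv10
        · rw [h4, h5, one_smul, one_smul] at h2; exact absurd (eq_of_add h2) h1
      rw [him1 l2 hl2 h3.1, one_mul] at h3
      rw [hl', smul_reim, h3.2, zero_smul, smul_zero, add_zero]
      exact W.add_mem hv1W (W.smul_mem _ hl)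
  · have hg1 : gf b v v1 = 1 := by
      by_contra hne
      apply hp
      intro k
      rw [he, b_smul O hl hv1W, (z2 _).resolve_right hne, mul_zero]
    set x2 := l2 • ρ y v1 with hx2
    have h1 : ∀ k : F4, im (l2 * k) * gf b v x2 = im k := by
      intro k
      have h2 := O.A.b_inv y (k • v) v1
      rw [hyv, b_smul O hl hv1W, hg1, mul_one] at h2
      rw [← h2, ← b_smul O hl hl2W, mul_smul, O.isU l2 hl2]
    have h2 : im l2 * gf b v x2 = 0 := by
      have := h1 1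
      rwa [mul_one] at this
    have h3 : gf b v x2 = 1 := by
      rcases z2 (gf b v x2) with h4 | h4
      · exfalso
        have := h1 F4.w
        rw [h4, mul_zero] at this
        exact absurd this (by decide)
      · exact h4
    rw [h3, mul_one] at h2
    have h4 := him1 l2 hl2 h2
    rw [hx2, h4, one_smul] at hl2W
    exact hl2W

/-- **THEOREM E2, abstract form** -/
theorem stab {e : V} {De : Submodule (ZMod 2) V} {Xe : Subgroup H} (Pe : Pt ρ b q w e De Xe)
    {y : H} (hy : y ∈ Xe) {v : V} (hv : v ∈ V0 b a c D m) : ρ y v ∈ V0 b a c D m := by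
  set W := V0 b a c D m with hW
  let S : Submodule (ZMod 2) V := W.comap (ρ y : V →ₗ[ZMod 2] V)
  have hS : ∀ v, Good ρ W a v → v ∈ S := fun v hv => good_stab O Pe hy hv
  have ha : a ∈ S := hS a good_a
  have h1 : ∀ u ∈ D, Perp b c u → u + Qf ρ a c Y m u • (m • c) ∈ S := by
    intro u hu hp
    have h2 := S.add_mem ha (hS _ (good_add O hu hp))
    rwa [add_assoc, self_add_add] at h2
  have hmc : m • c ∈ S := by
    obtain ⟨u, hu, hp, hu0⟩ := O.exists_U
    obtain ⟨u', hu', hp', hg⟩ := exists_g O hu hp hu0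
    have h2 := S.add_mem (S.add_mem (h1 u hu hp) (h1 u' hu' hp'))
      (h1 _ (D.add_mem hu hu') (perp_add hp hp'))
    have h3 : u + Qf ρ a c Y m u • m • c + (u' + Qf ρ a c Y m u' • m • c) +
        (u + u' + Qf ρ a c Y m (u + u') • m • c) = m • c := by
      rw [Qf_add O hu hp hu' hp', hg, add_smul, add_smul, one_smul]
      have h4 := self_add (u + u' + (Qf ρ a c Y m u • m • c + Qf ρ a c Y m u' • m • c))
      calc _ = u + u' + (Qf ρ a c Y m u • m • c + Qf ρ a c Y m u' • m • c) +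
            (u + u' + (Qf ρ a c Y m u • m • c + Qf ρ a c Y m u' • m • c)) + m • c := by abel
        _ = _ := by rw [h4, zero_add]
    rwa [h3] at h2
  obtain ⟨u, hu, hp, α, γ, rfl⟩ := mem_V0.1 hv
  have h2 : u ∈ S := by
    have h3 := S.add_mem (h1 u hu hp) (S.smul_mem (Qf ρ a c Y m u) hmc)
    rwa [add_self_add] at h3
  exact S.add_mem h2 (S.add_mem (S.smul_mem _ ha) (S.smul_mem _ hmc))

end Cfsg.Agent.Omega.EH3.ETwo.Pure
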