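import Cfsg.Agent.Omega.EH3.ETwo.Inst
import Cfsg.Agent.Omega.EH3.ETwo.Pure
import Cfsg.Agent.Omega.EH3.Irr.Shape
import Cfsg.Agent.SignalizersComponents.QsBasic

/-!
# THEOREM E2, final form

* `Om.of_norm` : some `x ∈ X` does not commute with `om` (automatic, `C_V(X) = {0, a}`);
* `main` : `7 ≤ w` ⇒ there is `V₀`, `V = V₀ ⊕ om V₀`, `b = 0` on `V₀`, `a ∈ V₀`, invariant under `⟨C_X(om)^H⟩`;
* `not_four` : `L` normal in `H`, quasisimple, `X ∩ C_H(L) = 1`, `V|L` irreducible, `om` commuting with `L`: impossible;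
* `end_two` : ... so `End_L(V) = {0, 1}`.
-/

set_option autoImplicit false
set_option linter.unusedSectionVars false
set_option linter.style.haveILetI false

namespace Cfsg.Agent.Omega.EH3.ETwo.Main

open Module Subgroup Cfsg.Agent.Omega.EH3.ETwo.Base Cfsg.Agent.Omega.EH3.ETwo.Opp
  Cfsg.Agent.Omega.EH3.ETwo.V0 Cfsg.Agent.Omega.EH3.ETwo.Inst

variable {H V : Type*} [Group H] [AddCommGroup V] [Module (ZMod 2) V]
  {ρ : H →* (V ≃ₗ[ZMod 2] V)} {b : LinearMap.BilinForm (ZMod 2) V} {q : V → ZMod 2}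
  {a : V} {D : Submodule (ZMod 2) V} {X : Subgroup H} {w : ℕ} {om : V →ₗ[ZMod 2] V}

/-- the hypothesis `ne` is automatic -/
theorem om_of (C : Cfg ρ b q a D X w) (hom : ∀ v, om (om v) = om v + v)
    (norm : ∀ h, (∀ v, ρ h (om v) = om (ρ h v)) ∨ (∀ v, ρ h (om v) = om (om (ρ h v))))
    (form : (∀ u v, b (om u) v = b u (om v)) ∨ (∀ u v, b (om u) (om v) = b u v)) : Om ρ b X om := by
  refine ⟨hom, norm, form, ?_⟩
  by_contra hcon
  push Not at hcon
  have h1 : ∀ x ∈ X, ρ x (om a) = om a := by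
    intro x hx
    rw [hcon x hx, C.X_a hx]
  have h2 := hom a
  rcases C.fix_X h1 with h | h
  · rw [h, map_zero, zero_add] at h2
    exact C.a_ne h2.symm
  · rw [h, h, self_add] at h2
    exact C.a_ne h2

/-- **THEOREM E2** -/
theorem main (O : Om ρ b X om) (C : Cfg ρ b q a D X w) (h7 : 7 ≤ w) :
    ∃ V₀ : Submodule (ZMod 2) V, V₀ ≠ ⊥ ∧ V₀ ≠ ⊤ ∧ a ∈ V₀ ∧ (∀ v ∈ V₀, om v ∈ V₀ → v = 0) ∧
      (∀ v, ∃ x ∈ V₀, ∃ y ∈ V₀, v = x + om y) ∧ (∀ x ∈ V₀, ∀ y ∈ V₀, b x y = 0) ∧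
      ∀ h, ∀ y ∈ Xo ρ X om, ∀ v ∈ V₀, ρ (h * y * h⁻¹) v ∈ V₀ := by
  letI := modOf om O.hom
  obtain ⟨h, m, hm⟩ := O.exists_op C h7
  refine ⟨V0 b a (ρ h a) D m, V0_ne_bot hm, V0_ne_top hm, a_mem, fun v hv hv' => inf_w hm hv hv',
    fun v => exists_dec hm v, fun x hx y hy => b_V0 hm hx hy, ?_⟩
  intro g y hy v hv
  exact Pure.stab hm (O.pt_map C h7 g) ⟨y, hy, rfl⟩ hv

/-- the subgroup `⟨C_X(om)^H⟩` leaves `V₀` invariant -/
theorem main' (O : Om ρ b X om) (C : Cfg ρ b q a D X w) (h7 : 7 ≤ w) :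
    ∃ V₀ : Submodule (ZMod 2) V, V₀ ≠ ⊥ ∧ V₀ ≠ ⊤ ∧
      ∀ g ∈ normalClosure (Xo ρ X om : Set H), ∀ v ∈ V₀, ρ g v ∈ V₀ := by
  obtain ⟨V₀, h0, h1, -, -, -, -, h2⟩ := main O C h7
  refine ⟨V₀, h0, h1, ?_⟩
  have := C.finite_H
  let S : Subgroup H :=
    { carrier := {g | ∀ v, ρ g v ∈ V₀ ↔ v ∈ V₀}
      one_mem' := fun v => by rw [C.ρ_one]
      mul_mem' := fun {g k} hg hk v => by rw [C.ρ_mul, hg, hk]
      inv_mem' := fun {g} hg v => by rw [← hg, C.ρ_apply_inv] }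
  have h3 : normalClosure (Xo ρ X om : Set H) ≤ S := by
    rw [normalClosure, closure_le]
    intro g hg
    obtain ⟨y, hy, hyg⟩ := Group.mem_conjugatesOfSet_iff.1 hg
    obtain ⟨k, hk⟩ := isConj_iff.1 hyg
    have h4 : ∀ v ∈ V₀, ρ g v ∈ V₀ := by
      intro v hv
      rw [← hk]; exact h2 k y hy v hv
    intro v
    refine ⟨fun hv => ?_, h4 v⟩
    have h5 := h4 _ hv
    rw [← C.ρ_mul] at h5
    have h6 : g * g = 1 := by
      rw [← hk]
      have := C.X_sq y hy.1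
      calc k * y * k⁻¹ * (k * y * k⁻¹) = k * (y * y) * k⁻¹ := by group
        _ = 1 := by rw [this]; group
    rwa [h6, C.ρ_one] at h5
  intro g hg v hv
  exact (h3 hg v).2 hv

/-- `C_X(om) ≠ 1` -/
theorem Xo_ne (O : Om ρ b X om) (C : Cfg ρ b q a D X w) (h7 : 7 ≤ w) : ∃ y ∈ Xo ρ X om, y ≠ 1 := by
  letI := modOf om O.hom
  have P := O.pt C
  have := C.finite_V
  obtain ⟨d, hd, hd'⟩ : ∃ d ∈ D, ∀ l : F4, d ≠ l • a := by
    by_contra hcon
    push Not at hcon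
    have h1 := Submodule.finrank_mono (show D ≤ line a from fun d hd => mem_line.2 (hcon d hd))
    have h2 := finrank_line_le a
    have h3 := P.dim
    omega
  obtain ⟨y, hy, h⟩ := P.exists_move hd hd'
  refine ⟨y, hy, ?_⟩
  rintro rfl
  rw [C.ρ_one] at h
  exact C.a_ne (left_eq_add.1 h)

/-- **the consumer form**: `End_L(V) = F_4` is impossible -/
theorem not_four (C : Cfg ρ b q a D X w) (h7 : 7 ≤ w) {L : Subgroup H} (hL : L.Normal) (hq : IsQuasisimple L)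
    (hX : X ⊓ centralizer (L : Set H) = ⊥)
    (hirr : ∀ W : Submodule (ZMod 2) V, (∀ l ∈ L, ∀ v ∈ W, ρ l v ∈ W) → W = ⊥ ∨ W = ⊤)
    (O : Om ρ b X om) : False := by
  obtain ⟨V₀, h0, h1, h2⟩ := main' O C h7
  set M := normalClosure (Xo ρ X om : Set H) with hM
  have hMn : M.Normal := normalClosure_normal
  -- `L ≤ M`
  have hLM : L ≤ M := by
    by_contra hcon
    have h3 : (M ⊓ L).subgroupOf L ≠ ⊤ := by
      intro h
      apply hcon
      intro l hl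
      have h4 : (⟨l, hl⟩ : L) ∈ (M ⊓ L).subgroupOf L := by rw [h]; exact mem_top _
      exact (mem_subgroupOf.1 h4).1
    have h4 : ((M ⊓ L).subgroupOf L).Normal := (inferInstance : (M ⊓ L).Normal).subgroupOf L
    have h5 := Cfsg.Agent.SignalizersComponents.QsBasic.normal_le_center_of_ne_top hq _ h3
    have h6 : M ⊓ L ≤ centralizer (L : Set H) := by
      intro g hg
      have h20 : (⟨g, hg.2⟩ : L) ∈ (M ⊓ L).subgroupOf L := mem_subgroupOf.2 hg
      have h8 := mem_center_iff.1 (h5 h20)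
      rw [mem_centralizer_iff]
      intro l hl
      exact congrArg Subtype.val (h8 ⟨l, hl⟩)
    have h21 : ⁅M, L⁆ ≤ centralizer (L : Set H) := (commutator_le_inf M L).trans h6
    have h8 : ⁅⁅M, L⁆, L⁆ = ⊥ := by
      rw [commutator_eq_bot_iff_le_centralizer]; exact h21
    have h9 : ⁅⁅L, M⁆, L⁆ = ⊥ := by rwa [commutator_comm L M]
    have h10 : ⁅⁅L, L⁆, M⁆ = ⊥ := commutator_commutator_eq_bot_of_rotate h9 h8
    have h11 : ⁅L, L⁆ = L := by
      have h12 := hq.1.commutator_eq_top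
      have h13 := congrArg (Subgroup.map L.subtype) h12
      rw [commutator_def, map_commutator, ← MonoidHom.range_eq_map, range_subtype] at h13
      exact h13
    rw [h11, commutator_comm, commutator_eq_bot_iff_le_centralizer] at h10
    obtain ⟨y, hy, hy1⟩ := Xo_ne O C h7
    have h12 : y ∈ X ⊓ centralizer (L : Set H) := ⟨hy.1, h10 (subset_normalClosure hy)⟩
    rw [hX] at h12
    exact hy1 (mem_bot.1 h12)
  rcases hirr V₀ (fun l hl v hv => h2 l (hLM hl) v hv) with h | h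
  · exact h0 h
  · exact h1 h

/-- **`End_L(V) = F_2`** -/
theorem end_two (C : Cfg ρ b q a D X w) (h7 : 7 ≤ w) {L : Subgroup H} (hL : L.Normal) (hq : IsQuasisimple L)
    (hX : X ⊓ centralizer (L : Set H) = ⊥)
    (hirr : ∀ W : Submodule (ZMod 2) V, (∀ l ∈ L, ∀ v ∈ W, ρ l v ∈ W) → W = ⊥ ∨ W = ⊤) :
    ∀ f : V →ₗ[ZMod 2] V, (∀ l ∈ L, ∀ v, f (ρ l v) = ρ l (f v)) → f = 0 ∨ f = LinearMap.id := by
  rcases Irr.Shape.shape C hL hirr with h | ⟨ζ, h1, -, -, h2, h3⟩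
  · exact h
  · exfalso
    refine not_four C h7 hL hq hX hirr (om := ζ) (om_of C h1 (fun h => ?_) ?_)
    · rcases h2 h with h4 | h4
      · exact Or.inl h4
      · right
        intro v
        rw [h4, h1]
    · rcases h3 with h4 | h4
      · exact Or.inl h4
      · right
        intro u v
        rw [h4, h1, map_add, add_assoc, add_comm (b u v), ← add_assoc, CharTwo.add_self_eq_zero, zero_add]

end Cfsg.Agent.Omega.EH3.ETwo.Main
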