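import Cfsg.Agent.Omega.EH3.ETwo.F4
import Mathlib.LinearAlgebra.BilinearForm.Orthogonal
import Mathlib.LinearAlgebra.Dual.Lemmas

/-!
# THEOREM E2, step (1): the structure `Pt` at a point `c ∈ a^H`
-/

set_option autoImplicit false
set_option linter.unusedSectionVars false

namespace Cfsg.Agent.Omega.EH3.ETwo.Base

open Module

variable {H V : Type*} [Group H] [AddCommGroup V] [Module (ZMod 2) V] [Module F4 V]

theorem z2 (c : ZMod 2) : c = 0 ∨ c = 1 := by revert c; decide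

/-- multiplication by `l` as a `ZMod 2`-linear map -/
def sm (l : F4) : V →ₗ[ZMod 2] V where
  toFun v := l • v
  map_add' u v := smul_add l u v
  map_smul' c v := by
    rcases z2 c with rfl | rfl
    · simp
    · simp

@[simp] theorem sm_apply (l : F4) (v : V) : sm l v = l • v := rfl

/-- `h` is `F4`-linear -/
def Lin (ρ : H →* (V ≃ₗ[ZMod 2] V)) (h : H) : Prop := ∀ (l : F4) (v : V), ρ h (l • v) = l • ρ h v

/-- `h` is semilinear -/
def Sem (ρ : H →* (V ≃ₗ[ZMod 2] V)) (h : H) : Prop := ∀ (l : F4) (v : V), ρ h (l • v) = l ^ 2 • ρ h v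

/-- the ambient data, no bound on `w` -/
structure Amb0 (ρ : H →* (V ≃ₗ[ZMod 2] V)) (b : LinearMap.BilinForm (ZMod 2) V) (q : V → ZMod 2)
    (w : ℕ) : Prop where
  fin : Finite V
  dim : finrank (ZMod 2) V = 2 * w
  b_self : ∀ v, b v v = 0
  nondeg : ∀ v, (∀ u, b v u = 0) → v = 0
  q_add : ∀ u v, q (u + v) = q u + q v + b u v
  q_inv : ∀ h v, q (ρ h v) = q v
  adj : (∀ (l : F4) u v, b (l • u) v = b u (l • v)) ∨ (∀ (l : F4), l ≠ 0 → ∀ u v, b (l • u) (l • v) = b u v)

/-- the ambient data, `7 ≤ w` -/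
structure Amb (ρ : H →* (V ≃ₗ[ZMod 2] V)) (b : LinearMap.BilinForm (ZMod 2) V) (q : V → ZMod 2)
    (w : ℕ) : Prop extends Amb0 ρ b q w where
  seven : 7 ≤ w

instance {ρ : H →* (V ≃ₗ[ZMod 2] V)} {b : LinearMap.BilinForm (ZMod 2) V} {q : V → ZMod 2} {w : ℕ} :
    Coe (Amb ρ b q w) (Amb0 ρ b q w) := ⟨Amb.toAmb0⟩

/-- the data at the point `c` -/
structure Pt (ρ : H →* (V ≃ₗ[ZMod 2] V)) (b : LinearMap.BilinForm (ZMod 2) V) (q : V → ZMod 2)
    (w : ℕ) (c : V) (D : Submodule (ZMod 2) V) (X : Subgroup H) : Prop where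
  ne : c ≠ 0
  fmem : ∀ l : F4, l • c ∈ D
  qD : ∀ d ∈ D, q d = 0
  bD : ∀ d ∈ D, ∀ d' ∈ D, b d d' = 0
  lin : ∀ y ∈ X, Lin ρ y
  sq : ∀ y ∈ X, y * y = 1
  fix : ∀ y ∈ X, ρ y c = c
  onD : ∀ y ∈ X, ∀ d ∈ D, ρ y d = d ∨ ρ y d = d + c
  rich : ∀ φ : V →ₗ[ZMod 2] ZMod 2, (∀ l : F4, φ (l • c) = 0) → ∃ y ∈ X, ∀ d ∈ D, ρ y d = d + φ d • c
  per : ∀ y ∈ X, ∀ v, b c v = 0 → ρ y v + v ∈ D
  semi : ∀ y ∈ X, ∀ v, b c v = 1 → ρ y v + v ∈ D → y = 1
  nD : ∀ h, Lin ρ h → ρ h c = c → ∀ d ∈ D, ρ h d ∈ D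
  nX : ∀ h, Lin ρ h → ρ h c = c → ∀ y ∈ X, h * y * h⁻¹ ∈ X
  cen : ∀ v, (∀ y ∈ X, ρ y v = v) → ∃ l : F4, v = l • c
  dim : finrank (ZMod 2) D = w

variable {ρ : H →* (V ≃ₗ[ZMod 2] V)} {b : LinearMap.BilinForm (ZMod 2) V} {q : V → ZMod 2} {w : ℕ}

theorem ρ_mul (g h : H) (v : V) : ρ (g * h) v = ρ g (ρ h v) := by rw [map_mul]; rfl

theorem ρ_one (v : V) : ρ 1 v = v := by rw [map_one]; rfl

theorem ρ_inv (g : H) (v : V) : ρ g⁻¹ (ρ g v) = v := by
  rw [← ρ_mul, inv_mul_cancel, ρ_one]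

theorem ρ_inv' (g : H) (v : V) : ρ g (ρ g⁻¹ v) = v := by
  rw [← ρ_mul, mul_inv_cancel, ρ_one]

theorem Lin.mul {g h : H} (hg : Lin ρ g) (hh : Lin ρ h) : Lin ρ (g * h) := by
  intro l v
  rw [ρ_mul, hh, hg, ← ρ_mul]

theorem Lin.inv {g : H} (hg : Lin ρ g) : Lin ρ g⁻¹ := by
  intro l v
  apply (ρ g).injective
  rw [hg, ρ_inv', ρ_inv']

theorem Lin.one : Lin ρ 1 := by
  intro l v
  rw [ρ_one, ρ_one]

/-- `v ⊥ F c` -/
def Perp (b : LinearMap.BilinForm (ZMod 2) V) (c v : V) : Prop := ∀ l : F4, b (l • c) v = 0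

/-- `(F c)^⊥` -/
def perp (b : LinearMap.BilinForm (ZMod 2) V) (c : V) : Submodule (ZMod 2) V where
  carrier := {v | Perp b c v}
  zero_mem' l := map_zero _
  add_mem' {u v} hu hv l := by rw [map_add, hu l, hv l, add_zero]
  smul_mem' k v hv l := by rw [map_smul, hv l, smul_zero]

theorem mem_perp {c v : V} : v ∈ perp b c ↔ Perp b c v := Iff.rfl

section Amb

variable (A : Amb0 ρ b q w)
include A

theorem Amb0.comm (u v : V) : b u v = b v u := by
  have h := A.b_self (u + v)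
  rw [map_add, map_add, LinearMap.add_apply, LinearMap.add_apply, A.b_self, A.b_self, zero_add,
    add_zero] at h
  exact (CharTwo.add_eq_zero.1 h).symm

theorem Amb0.b_inv (h : H) (u v : V) : b (ρ h u) (ρ h v) = b u v := by
  have h1 := A.q_add (ρ h u) (ρ h v)
  rw [← map_add, A.q_inv, A.q_inv, A.q_inv, A.q_add] at h1
  exact (add_left_cancel h1).symm

/-- `(F c)^⊥` is `F4`-invariant -/
theorem Amb0.perp_smul {c v : V} (h : Perp b c v) (k : F4) : Perp b c (k • v) := by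
  intro l
  by_cases hk : k = 0
  · rw [hk, zero_smul, map_zero]
  rcases A.adj with ha | ha
  · rw [← ha, smul_smul]
    exact h _
  · have e : l • c = k • ((k⁻¹ * l) • c) := by
      rw [smul_smul, mul_inv_cancel_left₀ hk]
    rw [e, ha k hk]
    exact h _

theorem Amb0.perp_symm {c v : V} (h : Perp b c v) : Perp b v c := by
  intro l
  rw [A.comm]
  have := A.perp_smul h l 1
  rwa [one_smul] at this

theorem Amb0.smul_perp {c v : V} (h : Perp b c v) (k : F4) : Perp b (k • c) v := by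
  intro l
  rw [smul_smul]
  exact h _

theorem Amb0.perp_of_smul {c v : V} {k : F4} (hk : k ≠ 0) (h : Perp b c (k • v)) : Perp b c v := by
  have := A.perp_smul h k⁻¹
  rwa [inv_smul_smul₀ hk] at this

omit A in
theorem perp_add {c u v : V} (h : Perp b c u) (h' : Perp b c v) : Perp b c (u + v) :=
  (perp b c).add_mem h h'

/-- `Perp c v` from two values -/
theorem perp_of_two {c v : V} (h1 : b c v = 0) (h2 : b (F4.w • c) v = 0) : Perp b c v := by
  have _ := A
  intro l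
  cases l
  · have : (F4.o : F4) • c = 0 := zero_smul F4 c
    rw [this, map_zero, LinearMap.zero_apply]
  · have : (F4.i : F4) • c = c := one_smul F4 c
    rw [this, h1]
  · exact h2
  · have : (F4.z : F4) • c = F4.w • c + c := by
      have e : (F4.z : F4) = F4.w + 1 := rfl
      rw [e, add_smul, one_smul]
    rw [this, map_add, LinearMap.add_apply, h1, h2, add_zero]

end Amb

section Pt

variable {c : V} {D : Submodule (ZMod 2) V} {X : Subgroup H}

theorem Pt.mem (P : Pt ρ b q w c D X) : c ∈ D := by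
  have := P.fmem 1
  rwa [one_smul] at this

theorem Pt.fixF (P : Pt ρ b q w c D X) {y : H} (hy : y ∈ X) (l : F4) : ρ y (l • c) = l • c := by
  rw [P.lin y hy, P.fix y hy]

theorem Pt.comm (P : Pt ρ b q w c D X) {x y : H} (hx : x ∈ X) (hy : y ∈ X) : x * y = y * x := by
  have h1 := P.sq _ (X.mul_mem hx hy)
  have hx' : x⁻¹ = x := inv_eq_of_mul_eq_one_left (P.sq x hx)
  have hy' : y⁻¹ = y := inv_eq_of_mul_eq_one_left (P.sq y hy)
  have h2 : (x * y)⁻¹ = x * y := inv_eq_of_mul_eq_one_left h1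
  rw [mul_inv_rev, hx', hy'] at h2
  exact h2.symm

/-- `l • c ∈ {0, c}` only for `l ∈ {0, 1}` -/
theorem Pt.smul_eq (P : Pt ρ b q w c D X) {l k : F4} (h : l • c = k • c) : l = k := by
  by_contra hne
  have h1 : (l - k) • c = 0 := by rw [sub_smul, h, sub_self]
  have h2 : l - k ≠ 0 := sub_ne_zero.2 hne
  rcases smul_eq_zero.1 h1 with h3 | h3
  · exact h2 h3
  · exact P.ne h3

/-- **L1** `D ∩ l⁻¹ D = F c` -/
theorem Pt.inf (P : Pt ρ b q w c D X) {l : F4} (h0 : l ≠ 0) (h1 : l ≠ 1) {d : V} (hd : d ∈ D)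
    (hl : l • d ∈ D) : ∃ k : F4, d = k • c := by
  apply P.cen
  intro y hy
  rcases P.onD y hy d hd with h | h
  · exact h
  · exfalso
    have h2 := P.lin y hy l d
    rw [h, smul_add] at h2
    rcases P.onD y hy _ hl with h3 | h3
    · rw [h3] at h2
      have h4 : l • c = (0 : F4) • c := by
        rw [zero_smul]
        exact (left_eq_add.1 h2)
      exact h0 (P.smul_eq h4)
    · rw [h3] at h2
      have h4 : l • c = (1 : F4) • c := by
        rw [one_smul]
        exact (add_left_cancel h2).symm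
      exact h1 (P.smul_eq h4)

/-- **L3** -/
theorem Pt.perpD (P : Pt ρ b q w c D X) {d : V} (hd : d ∈ D) : Perp b c d :=
  fun l => P.bD _ (P.fmem l) _ hd

theorem Pt.perp_self (P : Pt ρ b q w c D X) : Perp b c c := P.perpD P.mem

/-- **L4** `[(F c)^⊥, X] ≤ F c` -/
theorem Pt.delta (P : Pt ρ b q w c D X) (A : Amb0 ρ b q w) {v : V} (hv : Perp b c v) {y : H} (hy : y ∈ X) :
    ∃ l : F4, ρ y v = v + l • c := by
  have h1 : ρ y v + v ∈ D := P.per y hy v (by have := hv 1; rwa [one_smul] at this)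
  have h2 : ρ y (F4.w • v) + F4.w • v ∈ D :=
    P.per y hy _ (by have := A.perp_smul hv F4.w 1; rwa [one_smul] at this)
  rw [P.lin y hy, ← smul_add] at h2
  obtain ⟨k, hk⟩ := P.inf (l := F4.w) (by decide) (by decide) h1 h2
  exact ⟨k, by rw [add_eq_iff] at hk; rw [hk, add_comm]⟩

theorem Pt.inv_eq (P : Pt ρ b q w c D X) {y : H} (hy : y ∈ X) : y⁻¹ = y :=
  inv_eq_of_mul_eq_one_left (P.sq y hy)

/-- `ρ y (ρ y v) = v` -/
theorem Pt.twice (P : Pt ρ b q w c D X) {y : H} (hy : y ∈ X) (v : V) : ρ y (ρ y v) = v := by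
  rw [← ρ_mul, P.sq y hy, ρ_one]

/-- **L6** double annihilator -/
theorem Pt.double (P : Pt ρ b q w c D X) (A : Amb0 ρ b q w) {W : Submodule (ZMod 2) V}
    (hF : ∀ l : F4, l • c ∈ W) {d : V} (hd : d ∈ D)
    (h : ∀ y ∈ X, (∀ u ∈ W, u ∈ D → ρ y u = u) → ρ y d = d) : d ∈ W := by
  have _ := A.fin
  by_contra hdW
  obtain ⟨φ, h1, h2⟩ := Submodule.exists_le_ker_of_notMem hdW
  obtain ⟨y, hy, h3⟩ := P.rich φ (fun l => h2 (hF l))
  have h4 : ρ y d = d := h y hy (fun u hu huD => by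
    have : φ u = 0 := h2 hu
    rw [h3 u huD, this, zero_smul, add_zero])
  rw [h3 d hd] at h4
  have h5 : φ d • c = 0 := left_eq_add.1 h4.symm
  rcases z2 (φ d) with h6 | h6
  · exact h1 h6
  · rw [h6, one_smul] at h5
    exact P.ne h5

/-- an element of `X` moving `d ∈ D`, `d ∉ F c` -/
theorem Pt.exists_move (P : Pt ρ b q w c D X) {d : V} (hd : d ∈ D) (h : ∀ l : F4, d ≠ l • c) :
    ∃ y ∈ X, ρ y d = d + c := by
  by_contra hcon
  push Not at hcon
  obtain ⟨l, hl⟩ := P.cen d (fun y hy => (P.onD y hy d hd).resolve_right (hcon y hy))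
  exact h l hl

/-! ### dimensions -/

/-- the `F4`-line -/
def line (c : V) : Submodule (ZMod 2) V := Submodule.span (ZMod 2) {c, F4.w • c}

theorem mem_line {c v : V} : v ∈ line c ↔ ∃ l : F4, v = l • c := by
  rw [line, Submodule.mem_span_pair]
  constructor
  · rintro ⟨x, y, rfl⟩
    rcases z2 x with rfl | rfl <;> rcases z2 y with rfl | rfl
    · exact ⟨0, by simp⟩
    · exact ⟨F4.w, by simp⟩
    · exact ⟨1, by simp⟩
    · exact ⟨F4.z, by
        have e : (F4.z : F4) = 1 + F4.w := rfl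
        rw [e, add_smul]; simp⟩
  · rintro ⟨l, rfl⟩
    cases l
    · exact ⟨0, 0, by rw [zero_smul, zero_smul, add_zero]; exact (zero_smul F4 c).symm⟩
    · exact ⟨1, 0, by rw [zero_smul, one_smul, add_zero]; exact (one_smul F4 c).symm⟩
    · exact ⟨0, 1, by simp⟩
    · exact ⟨1, 1, by
        have e : (F4.z : F4) = 1 + F4.w := rfl
        rw [e, add_smul]; simp⟩

theorem finrank_line_le (c : V) : finrank (ZMod 2) (line c) ≤ 2 := by
  classical
  have h := finrank_span_le_card (R := ZMod 2) ({c, F4.w • c} : Set V)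
  refine h.trans ?_
  rw [Set.toFinset_insert, Set.toFinset_singleton]
  exact Finset.card_le_two

theorem finrank_line {c : V} (hc : c ≠ 0) : finrank (ZMod 2) (line c) = 2 := by
  have hli : LinearIndependent (ZMod 2) ![c, F4.w • c] := by
    rw [LinearIndependent.pair_iff]
    intro x y h
    have hw : (F4.w • c) ≠ 0 := by
      intro h'
      rcases smul_eq_zero.1 h' with h1 | h1
      · exact absurd h1 (by decide)
      · exact hc h1
    rcases z2 x with rfl | rfl <;> rcases z2 y with rfl | rfl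
    · exact ⟨rfl, rfl⟩
    · simp only [zero_smul, one_smul, zero_add] at h
      exact absurd h hw
    · simp only [zero_smul, one_smul, add_zero] at h
      exact absurd h hc
    · simp only [one_smul] at h
      have h2 : (F4.z : F4) • c = 0 := by
        have e : (F4.z : F4) = 1 + F4.w := rfl
        rw [e, add_smul, one_smul, h]
      rcases smul_eq_zero.1 h2 with h1 | h1
      · exact absurd h1 (by decide)
      · exact absurd h1 hc
  have h := finrank_span_eq_card hli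
  have e : Set.range ![c, F4.w • c] = {c, F4.w • c} := by
    rw [Matrix.range_cons, Matrix.range_cons, Matrix.range_empty, Set.union_empty]
    rfl
  rw [e] at h
  rw [line, h]; rfl

/-- `l • D` -/
def sD (l : F4) (D : Submodule (ZMod 2) V) : Submodule (ZMod 2) V := D.map (sm l)

theorem mem_sD {l : F4} {D : Submodule (ZMod 2) V} {v : V} : v ∈ sD l D ↔ ∃ d ∈ D, l • d = v := by
  rw [sD, Submodule.mem_map]; rfl

theorem finrank_sD {l : F4} (hl : l ≠ 0) (D : Submodule (ZMod 2) V) :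
    finrank (ZMod 2) (sD l D) = finrank (ZMod 2) D := by
  have hinj : Function.Injective (sm l : V →ₗ[ZMod 2] V) := by
    intro u v h
    have := congrArg (fun x => l⁻¹ • x) h
    simpa [inv_smul_smul₀ hl] using this
  exact (LinearEquiv.finrank_eq (Submodule.equivMapOfInjective _ hinj D)).symm

theorem Pt.inf_sD (P : Pt ρ b q w c D X) : D ⊓ sD F4.w D = line c := by
  apply le_antisymm
  · rintro v ⟨h1, h2⟩
    obtain ⟨d, hd, rfl⟩ := mem_sD.1 h2
    obtain ⟨k, rfl⟩ := P.inf (l := F4.w) (by decide) (by decide) hd h1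
    exact mem_line.2 ⟨F4.w * k, by rw [smul_smul]⟩
  · intro v hv
    obtain ⟨l, rfl⟩ := mem_line.1 hv
    refine ⟨P.fmem l, mem_sD.2 ⟨(F4.w⁻¹ * l) • c, P.fmem _, ?_⟩⟩
    rw [smul_smul, mul_inv_cancel_left₀ (by decide : F4.w ≠ 0)]

/-- the dimension of `(F c)^⊥` -/
theorem Amb0.finrank_perp (A : Amb0 ρ b q w) {c : V} (hc : c ≠ 0) :
    finrank (ZMod 2) (perp b c) ≤ 2 * w - 2 := by
  have _ := A.fin
  have hr : b.IsRefl := by
    intro u v h
    rw [A.comm]; exact h
  have hn : b.Nondegenerate := by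
    refine ⟨fun v h => A.nondeg v h, fun v h => A.nondeg v fun u => ?_⟩
    rw [A.comm]; exact h u
  have h1 : perp b c = b.orthogonal (line c) := by
    ext v
    rw [mem_perp, LinearMap.BilinForm.mem_orthogonal_iff]
    constructor
    · intro h u hu
      obtain ⟨l, rfl⟩ := mem_line.1 hu
      exact h l
    · intro h l
      exact h _ (mem_line.2 ⟨l, rfl⟩)
  rw [h1, LinearMap.BilinForm.finrank_orthogonal hn, finrank_line hc, A.dim]

/-- **L5** `(F c)^⊥ = D + w D` -/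
theorem Pt.decomp (P : Pt ρ b q w c D X) (A : Amb0 ρ b q w) {v : V} (hv : Perp b c v) :
    ∃ d ∈ D, ∃ d' ∈ D, v = d + F4.w • d' := by
  have _ := A.fin
  have h1 : D ⊔ sD F4.w D ≤ perp b c := by
    refine sup_le (fun d hd => P.perpD hd) ?_
    intro v hv
    obtain ⟨d, hd, rfl⟩ := mem_sD.1 hv
    exact A.perp_smul (P.perpD hd) _
  have h2 := Submodule.finrank_sup_add_finrank_inf_eq D (sD F4.w D)
  rw [P.inf_sD, finrank_line P.ne, finrank_sD (by decide), P.dim] at h2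
  have h3 := A.finrank_perp P.ne
  have h4 : D ⊔ sD F4.w D = perp b c :=
    Submodule.eq_of_le_of_finrank_le h1 (by omega)
  have h5 : v ∈ D ⊔ sD F4.w D := by rw [h4]; exact hv
  obtain ⟨d, hd, x, hx, rfl⟩ := Submodule.mem_sup.1 h5
  obtain ⟨d', hd', rfl⟩ := mem_sD.1 hx
  exact ⟨d, hd, d', hd', rfl⟩

end Pt

end Cfsg.Agent.Omega.EH3.ETwo.Base
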