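import Mathlib.Algebra.Field.Basic
import Mathlib.Algebra.Module.LinearMap.Basic
import Mathlib.Data.ZMod.Basic
import Mathlib.Data.Fintype.Basic
import Mathlib.Algebra.Module.ZMod
import Mathlib.Tactic

/-!
# The field with four elements, by tables; `F4`-module structure from `ω`, `ω² + ω + 1 = 0`
-/

set_option autoImplicit false

namespace Cfsg.Agent.Omega.EH3.ETwo

/-- the field with four elements `0, 1, w, w² = w + 1` -/
inductive F4 | o | i | w | z
  deriving DecidableEq

namespace F4

instance : Fintype F4 := ⟨{o, i, w, z}, by intro x; cases x <;> decide⟩

/-- addition -/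
def add : F4 → F4 → F4
  | o, x => x
  | x, o => x
  | i, i => o
  | i, w => z
  | i, z => w
  | w, i => z
  | w, w => o
  | w, z => i
  | z, i => w
  | z, w => i
  | z, z => o

/-- multiplication -/
def mul : F4 → F4 → F4
  | o, _ => o
  | _, o => o
  | i, x => x
  | x, i => x
  | w, w => z
  | w, z => i
  | z, w => i
  | z, z => w

/-- inverse -/
def inv : F4 → F4
  | o => o
  | i => i
  | w => z
  | z => w

instance : Zero F4 := ⟨o⟩
instance : One F4 := ⟨i⟩
instance : Add F4 := ⟨add⟩
instance : Mul F4 := ⟨mul⟩
instance : Neg F4 := ⟨fun x => x⟩
instance : Inv F4 := ⟨inv⟩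

instance : CommRing F4 where
  add_assoc := by decide
  zero_add := by decide
  add_zero := by decide
  add_comm := by decide
  mul_assoc := by decide
  one_mul := by decide
  mul_one := by decide
  mul_comm := by decide
  left_distrib := by decide
  right_distrib := by decide
  zero_mul := by decide
  mul_zero := by decide
  neg_add_cancel := by decide
  nsmul := nsmulRec
  zsmul := zsmulRec

instance : Field F4 where
  exists_pair_ne := ⟨0, 1, by decide⟩
  mul_inv_cancel := by decide
  inv_zero := by decide
  nnqsmul := _
  nnqsmul_def := fun _ _ => rfl
  qsmul := _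
  qsmul_def := fun _ _ => rfl

end F4

open F4

section

variable {V : Type*} [AddCommGroup V] [Module (ZMod 2) V]

theorem self_add (v : V) : v + v = 0 := by
  have : v + v = (2 : ZMod 2) • v := by rw [two_smul]
  rw [this, show (2 : ZMod 2) = 0 from rfl, zero_smul]

theorem self_add_add (u v : V) : u + (u + v) = v := by
  rw [← add_assoc, self_add, zero_add]

theorem add_self_add (u v : V) : u + v + v = u := by
  rw [add_assoc, self_add, add_zero]

theorem eq_of_add {u v : V} (h : u + v = 0) : u = v := by
  have := congrArg (· + v) h
  simpa [add_self_add] using this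

theorem add_eq_iff {u v x : V} : u + v = x ↔ u = x + v := by
  constructor
  · rintro rfl; rw [add_self_add]
  · rintro rfl; rw [add_self_add]

/-- the `F4`-action of `om` -/
def act (om : V →ₗ[ZMod 2] V) : F4 → V → V
  | o, _ => 0
  | i, v => v
  | w, v => om v
  | z, v => om v + v

/-- the `F4`-module structure defined by `om` -/
@[reducible] def modOf (om : V →ₗ[ZMod 2] V) (h : ∀ v, om (om v) = om v + v) : Module F4 V where
  smul := act om
  one_smul _ := rfl
  zero_smul _ := rfl
  smul_zero l := by cases l <;> simp [HSMul.hSMul, act]
  smul_add l u v := by
    cases l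
    · exact (add_zero (0 : V)).symm
    · rfl
    · exact map_add om u v
    · change om (u + v) + (u + v) = (om u + u) + (om v + v)
      rw [map_add]; abel
  add_smul l k v := by
    cases l <;> cases k
    · exact (add_zero (0 : V)).symm
    · exact (zero_add v).symm
    · exact (zero_add (om v)).symm
    · exact (zero_add (om v + v)).symm
    · exact (add_zero v).symm
    · exact (self_add v).symm
    · exact add_comm _ _
    · change om v = v + (om v + v)
      rw [add_comm, add_self_add]
    · exact (add_zero _).symm
    · rfl
    · exact (self_add _).symm
    · change v = om v + (om v + v)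
      rw [self_add_add]
    · exact (add_zero _).symm
    · change om v = om v + v + v
      rw [add_self_add]
    · change v = om v + v + om v
      rw [add_comm (om v) v, add_self_add]
    · exact (self_add _).symm
  mul_smul l k v := by
    cases l <;> cases k
    · rfl
    · rfl
    · rfl
    · rfl
    · rfl
    · rfl
    · rfl
    · rfl
    · exact (map_zero om).symm
    · rfl
    · exact (h v).symm
    · change v = om (om v + v)
      rw [map_add, h, add_comm (om v) v, add_self_add]
    · change 0 = om 0 + 0
      rw [map_zero, add_zero]
    · rfl
    · change v = om (om v) + om v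
      rw [h, add_comm (om v) v, add_self_add]
    · change om v = om (om v + v) + (om v + v)
      rw [map_add, h]
      have : om v + v + om v + (om v + v) = om v + (v + v) + (om v + om v) := by abel
      rw [this, self_add, self_add, add_zero, add_zero]

end

end Cfsg.Agent.Omega.EH3.ETwo
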