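import Cfsg.Agent.Omega.EH3.ETwo.Base

/-!
# THEOREM E2: transport of `Pt` by elements of `H`
-/

set_option autoImplicit false
set_option linter.unusedSectionVars false

namespace Cfsg.Agent.Omega.EH3.ETwo.Map

open Module Cfsg.Agent.Omega.EH3.ETwo.Base

variable {H V : Type*} [Group H] [AddCommGroup V] [Module (ZMod 2) V] [Module F4 V]
  {ρ : H →* (V ≃ₗ[ZMod 2] V)} {b : LinearMap.BilinForm (ZMod 2) V} {q : V → ZMod 2} {w : ℕ}
  {c : V} {D : Submodule (ZMod 2) V} {X : Subgroup H}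

theorem exists_t {h : H} (hh : Lin ρ h ∨ Sem ρ h) :
    ∃ t : F4 → F4, (∀ l (v : V), ρ h (l • v) = t l • ρ h v) ∧ (∀ l (v : V), l • ρ h v = ρ h (t l • v)) := by
  rcases hh with h1 | h1
  · exact ⟨id, h1, fun l v => (h1 l v).symm⟩
  · refine ⟨fun l => l ^ 2, h1, fun l v => ?_⟩
    rw [h1]
    have : ∀ l : F4, (l ^ 2) ^ 2 = l := by decide
    rw [this]

/-- conjugates of linear elements are linear -/
theorem lin_conj {h y : H} (hh : Lin ρ h ∨ Sem ρ h) (hy : Lin ρ y) : Lin ρ (h * y * h⁻¹) := by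
  obtain ⟨t, h1, h2⟩ := exists_t hh
  intro l v
  have e : ∀ v, ρ (h * y * h⁻¹) v = ρ h (ρ y (ρ h⁻¹ v)) := fun v => by rw [ρ_mul, ρ_mul]
  rw [e, e]
  have h3 : ρ h⁻¹ (l • v) = t l • ρ h⁻¹ v := by
    apply (ρ h).injective
    rw [ρ_inv', ← h2, ρ_inv']
  rw [h3, hy, ← h2]

theorem map (A : Amb0 ρ b q w) (P : Pt ρ b q w c D X) (h : H) (hh : Lin ρ h ∨ Sem ρ h) :
    Pt ρ b q w (ρ h c) (D.map (ρ h : V →ₗ[ZMod 2] V)) (X.map (MulAut.conj h).toMonoidHom) := by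
  obtain ⟨t, h1, h2⟩ := exists_t hh
  have hconj : ∀ y v, ρ (h * y * h⁻¹) (ρ h v) = ρ h (ρ y v) := fun y v => by
    rw [← ρ_mul, ← ρ_mul]; congr 2; group
  have hmem : ∀ d : V, ρ h d ∈ D.map (ρ h : V →ₗ[ZMod 2] V) ↔ d ∈ D := fun d => by
    rw [Submodule.mem_map]
    constructor
    · rintro ⟨x, hx, e⟩
      rwa [← (ρ h).injective e]
    · intro hd; exact ⟨d, hd, rfl⟩
  refine ⟨?_, ?_, ?_, ?_, ?_, ?_, ?_, ?_, ?_, ?_, ?_, ?_, ?_, ?_, ?_⟩
  · intro h3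
    exact P.ne ((ρ h).map_eq_zero_iff.1 h3)
  · intro l
    rw [h2, hmem]
    exact P.fmem _
  · rintro _ ⟨d, hd, rfl⟩
    exact (A.q_inv h d).trans (P.qD d hd)
  · rintro _ ⟨d, hd, rfl⟩ _ ⟨d', hd', rfl⟩
    exact (A.b_inv h d d').trans (P.bD d hd d' hd')
  · rintro _ ⟨y, hy, rfl⟩
    exact lin_conj hh (P.lin y hy)
  · rintro _ ⟨y, hy, rfl⟩
    change h * y * h⁻¹ * (h * y * h⁻¹) = 1
    have : h * y * h⁻¹ * (h * y * h⁻¹) = h * (y * y) * h⁻¹ := by group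
    rw [this, P.sq y hy, mul_one, mul_inv_cancel]
  · rintro _ ⟨y, hy, rfl⟩
    change ρ (h * y * h⁻¹) (ρ h c) = ρ h c
    rw [hconj, P.fix y hy]
  · rintro _ ⟨y, hy, rfl⟩ _ ⟨d, hd, rfl⟩
    change ρ (h * y * h⁻¹) (ρ h d) = ρ h d ∨ ρ (h * y * h⁻¹) (ρ h d) = ρ h d + ρ h c
    rw [hconj]
    rcases P.onD y hy d hd with h3 | h3
    · left; rw [h3]
    · right; rw [h3, map_add]
  · intro φ hφ
    obtain ⟨y, hy, h3⟩ := P.rich (φ ∘ₗ (ρ h : V →ₗ[ZMod 2] V)) (fun l => by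
      change φ (ρ h (l • c)) = 0
      rw [h1]; exact hφ _)
    refine ⟨_, ⟨y, hy, rfl⟩, ?_⟩
    rintro _ ⟨d, hd, rfl⟩
    change ρ (h * y * h⁻¹) (ρ h d) = ρ h d + φ (ρ h d) • ρ h c
    rw [hconj, h3 d hd, map_add, map_smul]
    rfl
  · rintro _ ⟨y, hy, rfl⟩ v hv
    change ρ (h * y * h⁻¹) v + v ∈ _
    have e : v = ρ h (ρ h⁻¹ v) := (ρ_inv' h v).symm
    have h3 : b c (ρ h⁻¹ v) = 0 := by
      rw [← A.b_inv h, ρ_inv']; exact hv
    rw [e, hconj, ← map_add, hmem]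
    exact P.per y hy _ h3
  · rintro _ ⟨y, hy, rfl⟩ v hv h3
    change h * y * h⁻¹ = 1
    change ρ (h * y * h⁻¹) v + v ∈ _ at h3
    have e : v = ρ h (ρ h⁻¹ v) := (ρ_inv' h v).symm
    have h4 : b c (ρ h⁻¹ v) = 1 := by
      rw [← A.b_inv h, ρ_inv']; exact hv
    rw [e, hconj, ← map_add, hmem] at h3
    rw [P.semi y hy _ h4 h3, mul_one, mul_inv_cancel]
  · intro g hg hgc
    rintro _ ⟨d, hd, rfl⟩
    have hg' : Lin ρ (h⁻¹ * g * h) := by
      have h5 : Lin ρ h⁻¹ ∨ Sem ρ h⁻¹ := by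
        rcases hh with h6 | h6
        · exact Or.inl h6.inv
        · right
          intro l v
          apply (ρ h).injective
          have e2 : ∀ l : F4, (l ^ 2) ^ 2 = l := by decide
          rw [ρ_inv', h6, e2, ρ_inv']
      have := lin_conj h5 hg
      rwa [inv_inv] at this
    have h3 : ρ (h⁻¹ * g * h) c = c := by
      rw [ρ_mul, ρ_mul, hgc, ρ_inv]
    have h4 := P.nD _ hg' h3 d hd
    change ρ g (ρ h d) ∈ _
    have e : ρ g (ρ h d) = ρ h (ρ (h⁻¹ * g * h) d) := by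
      rw [← ρ_mul, ← ρ_mul]; congr 2; group
    rw [e, hmem]
    exact h4
  · intro g hg hgc
    rintro _ ⟨y, hy, rfl⟩
    have hg' : Lin ρ (h⁻¹ * g * h) := by
      have h5 : Lin ρ h⁻¹ ∨ Sem ρ h⁻¹ := by
        rcases hh with h6 | h6
        · exact Or.inl h6.inv
        · right
          intro l v
          apply (ρ h).injective
          have e2 : ∀ l : F4, (l ^ 2) ^ 2 = l := by decide
          rw [ρ_inv', h6, e2, ρ_inv']
      have := lin_conj h5 hg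
      rwa [inv_inv] at this
    have h3 : ρ (h⁻¹ * g * h) c = c := by
      rw [ρ_mul, ρ_mul, hgc, ρ_inv]
    have h4 := P.nX _ hg' h3 y hy
    refine ⟨_, h4, ?_⟩
    change h * (h⁻¹ * g * h * y * (h⁻¹ * g * h)⁻¹) * h⁻¹ = g * (h * y * h⁻¹) * g⁻¹
    group
  · intro v hv
    have h3 : ∀ y ∈ X, ρ y (ρ h⁻¹ v) = ρ h⁻¹ v := by
      intro y hy
      have h4 := hv _ ⟨y, hy, rfl⟩
      change ρ (h * y * h⁻¹) v = v at h4
      apply (ρ h).injective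
      rw [ρ_inv', ← hconj, ρ_inv']
      exact h4
    obtain ⟨l, hl⟩ := P.cen _ h3
    refine ⟨t l, ?_⟩
    rw [← h1, ← hl, ρ_inv']
  · rw [← P.dim]
    exact LinearEquiv.finrank_eq (Submodule.equivMapOfInjective _ (ρ h).injective D).symm

end Cfsg.Agent.Omega.EH3.ETwo.Map
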