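import Cfsg.Agent.Omega.EH3.ETwo.Type
import Cfsg.Agent.Omega.EH3.ETwo.Map

/-!
# THEOREM E2, step (4): opposite points
-/

set_option autoImplicit false
set_option linter.unusedSectionVars false

namespace Cfsg.Agent.Omega.EH3.ETwo.Opp

open Module Cfsg.Agent.Omega.EH3.ETwo.Base Cfsg.Agent.Omega.EH3.ETwo.Type
  Cfsg.Agent.Omega.EH3.ETwo.Map

variable {H V : Type*} [Group H] [AddCommGroup V] [Module (ZMod 2) V] [Module F4 V]
  {ρ : H →* (V ≃ₗ[ZMod 2] V)} {b : LinearMap.BilinForm (ZMod 2) V} {q : V → ZMod 2} {w : ℕ}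
  {a c : V} {D E : Submodule (ZMod 2) V} {X Y : Subgroup H} {m : F4}

/-- two opposite points -/
structure Op (ρ : H →* (V ≃ₗ[ZMod 2] V)) (b : LinearMap.BilinForm (ZMod 2) V) (q : V → ZMod 2) (w : ℕ)
    (a c : V) (D E : Submodule (ZMod 2) V) (X Y : Subgroup H) (m : F4) : Prop where
  A : Amb ρ b q w
  P : Pt ρ b q w a D X
  Q : Pt ρ b q w c E Y
  one : b a c = 1
  m0 : m ≠ 0
  m1 : m ≠ 1
  hm : b a (m • c) = 0

theorem add_one_smul (v : V) : F4.z • v = v + F4.w • v := by
  have e : (F4.z : F4) = 1 + F4.w := rfl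
  rw [e, add_smul, one_smul]

theorem exists_m (h : b a c = 1) : ∃ m : F4, m ≠ 0 ∧ m ≠ 1 ∧ b a (m • c) = 0 := by
  have h1 : b a (F4.z • c) = b a c + b a (F4.w • c) := by rw [add_one_smul, map_add]
  rcases z2 (b a (F4.w • c)) with h2 | h2
  · exact ⟨F4.w, by decide, by decide, h2⟩
  · refine ⟨F4.z, by decide, by decide, ?_⟩
    rw [h1, h, h2]; rfl

/-- the coefficient in `{0, 1}` -/
def cf (k : ZMod 2) : F4 := if k = 0 then 0 else 1

theorem cf_smul (k : ZMod 2) (v : V) : cf k • v = k • v := by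
  rcases z2 k with rfl | rfl
  · simp [cf]
  · simp [cf]

theorem cf_add (k l : ZMod 2) : cf (k + l) = cf k + cf l := by revert k l; decide

theorem cf_inj {k l : ZMod 2} (h : cf k = cf l) : k = l := by revert k l; decide

namespace Op

variable (O : Op ρ b q w a c D E X Y m)
include O

theorem perp_ac {k : F4} (h : Perp b a (k • c)) : k = 0 := by
  by_contra hk
  have h1 := O.A.perp_of_smul hk h 1
  rw [one_smul, O.one] at h1
  exact one_ne_zero h1

theorem perp_ca {k : F4} (h : Perp b c (k • a)) : k = 0 := by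
  by_contra hk
  have h1 := O.A.perp_of_smul hk h 1
  rw [one_smul, O.A.comm, O.one] at h1
  exact one_ne_zero h1

/-- projection along `F a` -/
theorem proj (v : V) : ∃ l : F4, Perp b c (v + l • a) := by
  let f : F4 → ZMod 2 × ZMod 2 := fun l => (b c (l • a), b (F4.w • c) (l • a))
  have hf : Function.Injective f := by
    intro l k h
    have h1 : b c (l • a) = b c (k • a) := congrArg Prod.fst h
    have h2 : b (F4.w • c) (l • a) = b (F4.w • c) (k • a) := congrArg Prod.snd h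
    have h3 : Perp b c ((l - k) • a) := by
      refine perp_of_two O.A.toAmb0 ?_ ?_
      · rw [sub_smul, map_sub, h1, sub_self]
      · rw [sub_smul, map_sub, h2, sub_self]
    exact sub_eq_zero.1 (O.perp_ca h3)
  have hs : Function.Surjective f :=
    ((Fintype.bijective_iff_injective_and_card f).2 ⟨hf, by decide⟩).2
  obtain ⟨l, hl⟩ := hs (b c v, b (F4.w • c) v)
  have h1 : b c (l • a) = b c v := congrArg Prod.fst hl
  have h2 : b (F4.w • c) (l • a) = b (F4.w • c) v := congrArg Prod.snd hl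
  refine ⟨l, perp_of_two O.A.toAmb0 ?_ ?_⟩
  · rw [map_add, h1, CharTwo.add_self_eq_zero]
  · rw [map_add, h2, CharTwo.add_self_eq_zero]

omit O in
/-- `δ_y c` -/
def dl (ρ : H →* (V ≃ₗ[ZMod 2] V)) (c : V) (y : H) : V := ρ y c + c

theorem dl_mem {y : H} (hy : y ∈ X) : m • dl ρ c y ∈ D := by
  have := O.P.per y hy (m • c) O.hm
  rwa [O.P.lin y hy, ← smul_add] at this

theorem ρ_c (y : H) : ρ y c = c + dl ρ c y := by
  rw [dl, add_comm, add_self_add]

/-- the splitting `m δ_y c = u + κ a` -/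
theorem split {y : H} (hy : y ∈ X) : ∃ k : ZMod 2, Perp b c (m • dl ρ c y + cf k • a) := by
  obtain ⟨l, hl⟩ := O.proj (m • dl ρ c y)
  have hd := O.dl_mem hy
  -- `b (m c) (m δ) = 0`
  have h1 : b (m • c) (m • dl ρ c y) = 0 := by
    have h2 := O.A.q_inv y (m • c)
    have h3 : ρ y (m • c) = m • c + m • dl ρ c y := by
      rw [O.P.lin y hy, O.ρ_c y, smul_add]
    rw [h3, O.A.q_add, O.P.qD _ hd, add_zero] at h2
    exact left_eq_add.1 h2.symm
  have h2 : b (m • c) (l • a) = 0 := by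
    have := hl m
    rwa [map_add, h1, zero_add] at this
  have h3 : b (m • c) a = 0 := by rw [O.A.comm]; exact O.hm
  by_cases h4 : l = 0
  · exact ⟨0, by rw [h4] at hl; exact hl⟩
  by_cases h5 : l = 1
  · exact ⟨1, by rw [h5] at hl; exact hl⟩
  exfalso
  have hex : ∀ l : F4, l ≠ 0 → l ≠ 1 → F4.w = l ∨ F4.w = l + 1 := by decide
  have h6 : b (m • c) (F4.w • a) = 0 := by
    rcases hex l h4 h5 with h | h
    · rw [h]; exact h2
    · rw [h, add_smul, one_smul, map_add, h2, h3, add_zero]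
  have h7 : Perp b a (m • c) := by
    refine perp_of_two O.A.toAmb0 O.hm ?_
    rw [O.A.comm]; exact h6
  exact O.m0 (O.perp_ac h7)

omit O in
/-- `κ(y)` -/
noncomputable def kap (b : LinearMap.BilinForm (ZMod 2) V) (ρ : H →* (V ≃ₗ[ZMod 2] V)) (a c : V) (m : F4) (y : H) :
    ZMod 2 := by
  classical
  exact if Perp b c (m • dl ρ c y) then 0 else 1

theorem kap_spec {y : H} (hy : y ∈ X) : Perp b c (m • dl ρ c y + cf (kap b ρ a c m y) • a) := by
  classical
  obtain ⟨k, hk⟩ := O.split hy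
  have h : kap b ρ a c m y = k := by
    rw [kap]
    split_ifs with h1
    · rcases z2 k with rfl | rfl
      · rfl
      · exfalso
        have h2 := perp_add h1 hk
        rw [self_add_add] at h2
        exact absurd (O.perp_ca h2) (by decide)
    · rcases z2 k with rfl | rfl
      · exfalso
        apply h1
        have : cf 0 • a = 0 := by rw [cf_smul, zero_smul]
        rwa [this, add_zero] at hk
      · rfl
  rw [h]
  exact hk

theorem kap_unique {y : H} (hy : y ∈ X) {k : ZMod 2} (h : Perp b c (m • dl ρ c y + cf k • a)) :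
    kap b ρ a c m y = k := by
  have h1 := perp_add h (O.kap_spec hy)
  have h2 : m • dl ρ c y + cf k • a + (m • dl ρ c y + cf (kap b ρ a c m y) • a) =
      (cf k + cf (kap b ρ a c m y)) • a := by
    rw [add_smul]
    have := self_add (m • dl ρ c y)
    calc _ = (m • dl ρ c y + m • dl ρ c y) + (cf k • a + cf (kap b ρ a c m y) • a) := by abel
      _ = _ := by rw [this, zero_add]
  rw [h2] at h1
  have h3 := O.perp_ca h1
  have h4 : ∀ k l : ZMod 2, cf k + cf l = 0 → l = k := by decide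
  exact h4 _ _ h3

omit O in
/-- `β(y, z)` : `ρ y (m δ_z) = m δ_z + β a` -/
noncomputable def bet (ρ : H →* (V ≃ₗ[ZMod 2] V)) (c : V) (m : F4) (y z : H) : ZMod 2 := by
  classical
  exact if ρ y (m • dl ρ c z) = m • dl ρ c z then 0 else 1

theorem bet_spec {y z : H} (hy : y ∈ X) (hz : z ∈ X) :
    ρ y (m • dl ρ c z) = m • dl ρ c z + bet ρ c m y z • a := by
  classical
  rw [bet]
  split_ifs with h
  · rw [h, zero_smul, add_zero]
  · rw [one_smul]
    exact (O.P.onD y hy _ (O.dl_mem hz)).resolve_left h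

theorem a_cancel {v : V} {k l : ZMod 2} (h : v + k • a = v + l • a) : k = l := by
  have h1 := add_left_cancel h
  rcases z2 k with rfl | rfl <;> rcases z2 l with rfl | rfl
  · rfl
  · rw [zero_smul, one_smul] at h1; exact absurd h1.symm O.P.ne
  · rw [zero_smul, one_smul] at h1; exact absurd h1 O.P.ne
  · rfl

/-- `m δ_{yz} = m δ_y + m δ_z + β a` -/
theorem dl_mul {y z : H} (hy : y ∈ X) (hz : z ∈ X) :
    m • dl ρ c (y * z) = m • dl ρ c y + m • dl ρ c z + bet ρ c m y z • a := by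
  have h1 : m • ρ (y * z) c = m • c + m • dl ρ c y + (m • dl ρ c z + bet ρ c m y z • a) := by
    rw [← O.bet_spec hy hz, ← smul_add, ← O.ρ_c y, O.P.lin y hy, ← smul_add, ρ_mul, O.ρ_c z, map_add]
  rw [dl, smul_add, h1]
  have := self_add (m • c)
  calc _ = (m • c + m • c) + (m • dl ρ c y + m • dl ρ c z + bet ρ c m y z • a) := by abel
    _ = _ := by rw [this, zero_add]

theorem bet_symm {y z : H} (hy : y ∈ X) (hz : z ∈ X) : bet ρ c m y z = bet ρ c m z y := by
  have h1 := O.dl_mul hy hz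
  have h2 := O.dl_mul hz hy
  rw [O.P.comm hy hz, h2, add_comm (m • dl ρ c z)] at h1
  exact (O.a_cancel h1).symm

theorem bet_mul {y z z' : H} (hy : y ∈ X) (hz : z ∈ X) (hz' : z' ∈ X) :
    bet ρ c m y (z * z') = bet ρ c m y z + bet ρ c m y z' := by
  have h1 := O.bet_spec hy (X.mul_mem hz hz')
  have hfa : ∀ k : ZMod 2, ρ y (k • a) = k • a := fun k => by rw [map_smul, O.P.fix y hy]
  rw [O.dl_mul hz hz', map_add, map_add, O.bet_spec hy hz, O.bet_spec hy hz', hfa] at h1
  have h2 : m • dl ρ c z + m • dl ρ c z' + bet ρ c m z z' • a + (bet ρ c m y z + bet ρ c m y z') • a =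
      m • dl ρ c z + m • dl ρ c z' + bet ρ c m z z' • a + bet ρ c m y (z * z') • a := by
    rw [← h1, add_smul]; abel
  exact (O.a_cancel h2).symm

theorem kap_mul {y z : H} (hy : y ∈ X) (hz : z ∈ X) :
    kap b ρ a c m (y * z) = kap b ρ a c m y + kap b ρ a c m z + bet ρ c m y z := by
  apply O.kap_unique (X.mul_mem hy hz)
  have h1 := perp_add (O.kap_spec hy) (O.kap_spec hz)
  rw [O.dl_mul hy hz, cf_add, cf_add, add_smul, add_smul]
  have e : bet ρ c m y z • a = cf (bet ρ c m y z) • a := (cf_smul _ _).symm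
  rw [e]
  have h2 := self_add (cf (bet ρ c m y z) • a)
  have h3 : m • dl ρ c y + m • dl ρ c z + cf (bet ρ c m y z) • a +
      (cf (kap b ρ a c m y) • a + cf (kap b ρ a c m z) • a + cf (bet ρ c m y z) • a) =
      m • dl ρ c y + cf (kap b ρ a c m y) • a + (m • dl ρ c z + cf (kap b ρ a c m z) • a) := by
    calc _ = m • dl ρ c y + cf (kap b ρ a c m y) • a + (m • dl ρ c z + cf (kap b ρ a c m z) • a) +
          (cf (bet ρ c m y z) • a + cf (bet ρ c m y z) • a) := by abel
      _ = _ := by rw [h2, add_zero]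
  rw [h3]
  exact h1

/-- `m δ_z ∈ F a` only for `z = 1` -/
theorem dl_line {z : H} (hz : z ∈ X) {l : F4} (h : m • dl ρ c z = l • a) : z = 1 := by
  apply O.P.semi z hz c O.one
  have h1 : dl ρ c z = (m⁻¹ * l) • a := by
    rw [mul_smul, ← h, inv_smul_smul₀ O.m0]
  change dl ρ c z ∈ D
  rw [h1]
  exact O.P.fmem _

theorem bet_rich {φ : V →ₗ[ZMod 2] ZMod 2} (hφ : ∀ l : F4, φ (l • a) = 0) :
    ∃ y ∈ X, (∀ d ∈ D, ρ y d = d + φ d • a) ∧ ∀ z ∈ X, bet ρ c m y z = φ (m • dl ρ c z) := by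
  obtain ⟨y, hy, h⟩ := O.P.rich φ hφ
  refine ⟨y, hy, h, fun z hz => ?_⟩
  have h1 := O.bet_spec hy hz
  rw [h _ (O.dl_mem hz)] at h1
  exact (O.a_cancel h1).symm

/-- **(4d)** `κ(y) = 0` implies `δ_y c ∈ D(c)` -/
theorem good_mem {y : H} (hy : y ∈ X) (hk : kap b ρ a c m y = 0) : dl ρ c y ∈ E := by
  have h0 := O.kap_spec hy
  rw [hk] at h0
  have h1 : Perp b c (m • dl ρ c y) := by
    have : cf 0 • a = 0 := by rw [cf_smul, zero_smul]
    rwa [this, add_zero] at h0
  have h2 : Perp b c (dl ρ c y) := O.A.perp_of_smul O.m0 h1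
  have h3 : Perp b c (ρ y c) := by
    rw [O.ρ_c y]
    exact perp_add O.Q.perp_self h2
  by_cases hne : ∀ l : F4, ρ y c ≠ l • c
  · have Q' := Map.map O.A O.Q y (Or.inl (O.P.lin y hy))
    obtain ⟨l, hl0, hl⟩ := type_one O.A O.Q Q' h3 hne
    have h4 : l • c ∈ E.map (ρ y : V →ₗ[ZMod 2] V) := by
      refine ⟨_, hl, ?_⟩
      change ρ y (l • ρ y c) = l • c
      rw [O.P.lin y hy, O.P.twice hy]
    have h5 := inv_type O.A O.Q Q' h3 hne hl0 hl hl0 h4
    have h6 : ∀ l : F4, l * l = 1 → l = 1 := by decide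
    rw [h6 l h5, one_smul] at hl
    exact E.add_mem hl O.Q.mem
  · push Not at hne
    obtain ⟨l, hl⟩ := hne
    have h4 : dl ρ c y = (l + 1) • c := by rw [dl, hl, add_smul, one_smul]
    have h5 := O.dl_mem hy
    rw [h4, smul_smul] at h5
    have h6 := O.perp_ac (O.P.perpD h5)
    have h7 : l + 1 = 0 := (mul_eq_zero.1 h6).resolve_left O.m0
    rw [h4, h7, zero_smul]
    exact E.zero_mem

/-- **(4e)** -/
theorem exists_gen {y : H} (hy : y ∈ X) (hk : kap b ρ a c m y = 1) :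
    ∃ z ∈ X, kap b ρ a c m z = 0 ∧ bet ρ c m y z = 1 := by
  have _ := O.A.fin
  by_contra hcon
  push Not at hcon
  have hcon' : ∀ z ∈ X, bet ρ c m y z = 1 → kap b ρ a c m z = 1 := by
    intro z hz h
    rcases z2 (kap b ρ a c m z) with h1 | h1
    · exact absurd h (hcon z hz h1)
    · exact h1
  set W0 : Submodule (ZMod 2) V := line a ⊔ Submodule.span (ZMod 2) {m • dl ρ c y} with hW0
  have hW0F : ∀ l : F4, l • a ∈ W0 := fun l => Submodule.mem_sup_left (mem_line.2 ⟨l, rfl⟩)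
  have hW0y : m • dl ρ c y ∈ W0 := Submodule.mem_sup_right (Submodule.subset_span rfl)
  have hsp : ∀ v : V, finrank (ZMod 2) (Submodule.span (ZMod 2) {v}) ≤ 1 := by
    intro v
    classical
    have := finrank_span_finset_le_card (R := ZMod 2) ({v} : Finset V)
    rw [Finset.card_singleton] at this
    rwa [Finset.coe_singleton] at this
  have hsup : ∀ U W : Submodule (ZMod 2) V,
      finrank (ZMod 2) (U ⊔ W : Submodule (ZMod 2) V) ≤ finrank (ZMod 2) U + finrank (ZMod 2) W := by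
    intro U W
    have := Submodule.finrank_sup_add_finrank_inf_eq U W
    omega
  have hW0r : finrank (ZMod 2) W0 ≤ 3 := by
    have h1 := hsup (line a) (Submodule.span (ZMod 2) {m • dl ρ c y})
    have h2 := finrank_line_le a
    have h3 := hsp (m • dl ρ c y)
    rw [hW0]
    omega
  have hex : ∀ U : Submodule (ZMod 2) V, finrank (ZMod 2) U ≤ 6 → ∃ d ∈ D, d ∉ U := by
    intro U hU
    by_contra hc
    push Not at hc
    have h1 := Submodule.finrank_mono (show D ≤ U from hc)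
    have h2 := O.P.dim
    have h3 := O.A.seven
    omega
  -- `m δ_y ∉ F a`
  have hy1 : ∀ l : F4, m • dl ρ c y ≠ l • a := by
    intro l h
    have := O.dl_line hy h
    rw [this] at hk
    have h2 : kap b ρ a c m (1 : H) = 0 := by
      apply O.kap_unique X.one_mem
      have h3 : dl ρ c (1 : H) = 0 := by rw [dl, ρ_one, self_add]
      rw [h3, smul_zero, zero_add, cf_smul, zero_smul]
      exact (perp b c).zero_mem
    rw [h2] at hk
    exact zero_ne_one hk
  -- `z'` with `β(y, z') = 1`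
  obtain ⟨z', hz', hyz'⟩ : ∃ z' ∈ X, bet ρ c m y z' = 1 := by
    have h1 : m • dl ρ c y ∉ line a := fun h => by
      obtain ⟨l, hl⟩ := mem_line.1 h
      exact hy1 l hl
    obtain ⟨φ, h2, h3⟩ := Submodule.exists_le_ker_of_notMem h1
    obtain ⟨z', hz', -, h4⟩ := O.bet_rich (φ := φ) (fun l => h3 (mem_line.2 ⟨l, rfl⟩))
    refine ⟨z', hz', ?_⟩
    rw [O.bet_symm hy hz', h4 y hy]
    exact (z2 _).resolve_left h2
  -- on `y^⊥`: `κ(t) = β(z', t)`
  have h1 : ∀ t ∈ X, bet ρ c m y t = 0 → kap b ρ a c m t = bet ρ c m z' t := by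
    intro t ht h0
    have h2 := hcon' (z' * t) (X.mul_mem hz' ht) (by rw [O.bet_mul hy hz' ht, hyz', h0, add_zero])
    rw [O.kap_mul hz' ht, hcon' z' hz' hyz', add_assoc] at h2
    have h3 : kap b ρ a c m t + bet ρ c m z' t = 0 := left_eq_add.1 h2.symm
    exact CharTwo.add_eq_zero.1 h3
  have h2 : ∀ t ∈ X, ∀ t' ∈ X, bet ρ c m y t = 0 → bet ρ c m y t' = 0 → bet ρ c m t t' = 0 := by
    intro t ht t' ht' h3 h4
    have h5 := h1 (t * t') (X.mul_mem ht ht') (by rw [O.bet_mul hy ht ht', h3, h4, add_zero])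
    rw [O.kap_mul ht ht', O.bet_mul hz' ht ht', h1 t ht h3, h1 t' ht' h4] at h5
    exact left_eq_add.1 h5.symm
  -- `t ∈ y^⊥`, `t ≠ 1, y`
  obtain ⟨d0, hd0, hd0'⟩ := hex W0 (by omega)
  obtain ⟨d1, hd1, hd1'⟩ := hex (W0 ⊔ Submodule.span (ZMod 2) {d0}) (by
    have := hsup W0 (Submodule.span (ZMod 2) {d0})
    have := hsp d0
    omega)
  have hd01 : d0 ∉ W0 ⊔ Submodule.span (ZMod 2) {d1} := by
    intro h
    obtain ⟨x, hx, z, hz, hxz⟩ := Submodule.mem_sup.1 h
    obtain ⟨k, rfl⟩ := Submodule.mem_span_singleton.1 hz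
    rcases z2 k with rfl | rfl
    · rw [zero_smul, add_zero] at hxz
      exact hd0' (hxz ▸ hx)
    · rw [one_smul] at hxz
      apply hd1'
      have : d1 = x + d0 := by rw [← hxz, self_add_add]
      rw [this]
      exact Submodule.add_mem_sup hx (Submodule.subset_span rfl)
  obtain ⟨t, ht, ht0, ht1, hty⟩ : ∃ t ∈ X, bet ρ c m y t = 0 ∧ t ≠ 1 ∧ t ≠ y := by
    obtain ⟨φ1, h3, h4⟩ := Submodule.exists_le_ker_of_notMem hd1'
    obtain ⟨φ2, h5, h6⟩ := Submodule.exists_le_ker_of_notMem hd01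
    obtain ⟨t1, ht1, ht1D, ht1b⟩ := O.bet_rich (φ := φ1) (fun l => h4 (Submodule.mem_sup_left (hW0F l)))
    obtain ⟨t2, ht2, ht2D, ht2b⟩ := O.bet_rich (φ := φ2) (fun l => h6 (Submodule.mem_sup_left (hW0F l)))
    have h1y : bet ρ c m y t1 = 0 := by
      rw [O.bet_symm hy ht1, ht1b y hy]; exact h4 (Submodule.mem_sup_left hW0y)
    have h2y : bet ρ c m y t2 = 0 := by
      rw [O.bet_symm hy ht2, ht2b y hy]; exact h6 (Submodule.mem_sup_left hW0y)
    have h7 : φ1 d1 = 1 := (z2 _).resolve_left h3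
    have h8 : φ2 d0 = 1 := (z2 _).resolve_left h5
    have h9 : φ1 d0 = 0 := h4 (Submodule.mem_sup_right (Submodule.subset_span rfl))
    by_cases h10 : t1 = y
    · refine ⟨t2, ht2, h2y, ?_, ?_⟩
      · rintro rfl
        have := ht2D d0 hd0
        rw [ρ_one, h8, one_smul] at this
        exact O.P.ne (left_eq_add.1 this)
      · intro h11
        have h12 := ht2D d0 hd0
        have h13 := ht1D d0 hd0
        rw [h11, h8, one_smul] at h12
        rw [h10, h9, zero_smul, add_zero, h12] at h13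
        exact O.P.ne (left_eq_add.1 h13.symm)
    · refine ⟨t1, ht1, h1y, ?_, h10⟩
      rintro rfl
      have := ht1D d1 hd1
      rw [ρ_one, h7, one_smul] at this
      exact O.P.ne (left_eq_add.1 this)
  -- `m δ_t ∉ W0`
  have htW : m • dl ρ c t ∉ W0 := by
    intro h
    obtain ⟨x, hx, z, hz, hxz⟩ := Submodule.mem_sup.1 h
    obtain ⟨k, rfl⟩ := Submodule.mem_span_singleton.1 hz
    obtain ⟨l, rfl⟩ := mem_line.1 hx
    rcases z2 k with rfl | rfl
    · rw [zero_smul, add_zero] at hxz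
      exact ht1 (O.dl_line ht hxz.symm)
    · rw [one_smul] at hxz
      have h3 := O.dl_mul ht hy
      rw [← hxz, add_self_add, ← cf_smul, ← add_smul] at h3
      have h4 := O.dl_line (X.mul_mem ht hy) h3
      apply hty
      have h5 := O.P.sq y hy
      calc t = t * (y * y) := by rw [h5, mul_one]
        _ = t * y * y := by rw [mul_assoc]
        _ = y := by rw [h4, one_mul]
  obtain ⟨φ, h3, h4⟩ := Submodule.exists_le_ker_of_notMem htW
  obtain ⟨t', ht', -, ht'b⟩ := O.bet_rich (φ := φ) (fun l => h4 (hW0F l))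
  have h5 : bet ρ c m y t' = 0 := by
    rw [O.bet_symm hy ht', ht'b y hy]; exact h4 hW0y
  have h6 := h2 t ht t' ht' ht0 h5
  rw [O.bet_symm ht ht', ht'b t ht] at h6
  exact h3 h6

/-- **(4e)** `δ_y c ∈ D(c) + {0, m⁻¹ a}` -/
theorem mem_E {y : H} (hy : y ∈ X) : ∃ k : ZMod 2, dl ρ c y + (cf k * m⁻¹) • a ∈ E := by
  rcases z2 (kap b ρ a c m y) with h | h
  · refine ⟨0, ?_⟩
    have : cf 0 = 0 := rfl
    rw [this, zero_mul, zero_smul, add_zero]
    exact O.good_mem hy h
  · obtain ⟨z, hz, h1, h2⟩ := O.exists_gen hy h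
    refine ⟨1, ?_⟩
    have h3 : kap b ρ a c m (y * z) = 0 := by
      rw [O.kap_mul hy hz, h, h1, h2]; rfl
    have h4 := O.good_mem (X.mul_mem hy hz) h3
    have h5 := O.good_mem hz h1
    have h6 := O.dl_mul hy hz
    rw [h2, one_smul] at h6
    have h7 : dl ρ c (y * z) = dl ρ c y + dl ρ c z + m⁻¹ • a := by
      have := congrArg (fun x => m⁻¹ • x) h6
      simp only [smul_add, inv_smul_smul₀ O.m0] at this
      exact this
    have h8 := E.add_mem h4 h5
    have h9 : dl ρ c (y * z) + dl ρ c z = dl ρ c y + (cf 1 * m⁻¹) • a := by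
      have e : cf 1 = 1 := rfl
      rw [h7, e, one_mul]
      have := self_add (dl ρ c z)
      calc _ = dl ρ c y + m⁻¹ • a + (dl ρ c z + dl ρ c z) := by abel
        _ = _ := by rw [this, add_zero]
    rwa [h9] at h8

/-- **(4f)** surjectivity -/
theorem surj {u : V} (hu : u ∈ D) (hp : Perp b c u) :
    ∃ y ∈ X, m • dl ρ c y = u + kap b ρ a c m y • a := by
  have _ := O.A.fin
  let I : Submodule (ZMod 2) V :=
    { carrier := {d | ∃ y ∈ X, ∃ l : F4, d = m • dl ρ c y + l • a}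
      zero_mem' := ⟨1, X.one_mem, 0, by rw [dl, ρ_one, self_add, smul_zero, zero_smul, add_zero]⟩
      add_mem' := by
        rintro _ _ ⟨y, hy, l, rfl⟩ ⟨z, hz, k, rfl⟩
        refine ⟨y * z, X.mul_mem hy hz, cf (bet ρ c m y z) + l + k, ?_⟩
        rw [O.dl_mul hy hz, add_smul, add_smul, cf_smul]
        have := self_add (bet ρ c m y z • a)
        calc _ = m • dl ρ c y + m • dl ρ c z + (l • a + k • a) := by abel
          _ = m • dl ρ c y + m • dl ρ c z + (l • a + k • a) + (bet ρ c m y z • a + bet ρ c m y z • a) := by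
            rw [this, add_zero]
          _ = _ := by abel
      smul_mem' := by
        rintro k _ ⟨y, hy, l, rfl⟩
        rcases z2 k with rfl | rfl
        · rw [zero_smul]
          exact ⟨1, X.one_mem, 0, by rw [dl, ρ_one, self_add, smul_zero, zero_smul, add_zero]⟩
        · rw [one_smul]; exact ⟨y, hy, l, rfl⟩ }
  have hI : u ∈ I := by
    by_contra hc
    obtain ⟨φ, h1, h2⟩ := Submodule.exists_le_ker_of_notMem hc
    have hIa : ∀ l : F4, l • a ∈ I := fun l =>
      ⟨1, X.one_mem, l, by rw [dl, ρ_one, self_add, smul_zero, zero_add]⟩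
    obtain ⟨z, hz, h3, h4⟩ := O.bet_rich (φ := φ) (fun l => h2 (hIa l))
    have h5 : ∀ y ∈ X, ρ y (m • dl ρ c z) = m • dl ρ c z := by
      intro y hy
      rw [O.bet_spec hy hz, O.bet_symm hy hz, h4 y hy]
      have : φ (m • dl ρ c y) = 0 := h2 ⟨y, hy, 0, by rw [zero_smul, add_zero]⟩
      rw [this, zero_smul, add_zero]
    obtain ⟨l, hl⟩ := O.P.cen _ h5
    have h6 := O.dl_line hz hl
    rw [h6] at h3
    have h7 := h3 u hu
    rw [ρ_one, (z2 _).resolve_left h1, one_smul] at h7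
    exact O.P.ne (left_eq_add.1 h7)
  obtain ⟨y, hy, l, h⟩ := hI
  refine ⟨y, hy, ?_⟩
  have h1 : m • dl ρ c y = u + l • a := by rw [h, add_self_add]
  have h2 := O.kap_spec hy
  rw [h1, add_assoc, ← add_smul] at h2
  have h3 := perp_add hp h2
  rw [self_add_add] at h3
  have h4 := O.perp_ca h3
  have h5 : l = cf (kap b ρ a c m y) := by
    have h6 : ∀ l k : F4, l + k = 0 → l = k := by decide
    exact h6 _ _ h4
  rw [h1, h5, cf_smul]

/-- **(4g)** `m⁻¹ u ∈ D(c)` for `u ∈ U_a = D(a) ∩ (F c)^⊥` -/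
theorem inv_mem {u : V} (hu : u ∈ D) (hp : Perp b c u) : m⁻¹ • u ∈ E := by
  obtain ⟨y, hy, h⟩ := O.surj hu hp
  obtain ⟨k, hk⟩ := O.mem_E hy
  have h1 : dl ρ c y = m⁻¹ • u + (cf (kap b ρ a c m y) * m⁻¹) • a := by
    have := congrArg (fun x => m⁻¹ • x) h
    simp only [smul_add, inv_smul_smul₀ O.m0] at this
    rw [this, ← cf_smul, smul_smul, mul_comm]
  rw [h1, add_assoc, ← add_smul] at hk
  have h2 := O.Q.perpD hk
  have h3 := perp_add (O.A.perp_smul hp m⁻¹) h2
  rw [self_add_add] at h3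
  have h4 := O.perp_ca h3
  rw [h4, zero_smul, add_zero] at hk
  exact hk

/-- the number `m'` of the opposite pair `(c, a)` -/
theorem symm_B (hB : ∀ (l : F4) (u v : V), b (l • u) v = b u (l • v)) : Op ρ b q w c a E D Y X m where
  A := O.A
  P := O.Q
  Q := O.P
  one := by rw [O.A.comm]; exact O.one
  m0 := O.m0
  m1 := O.m1
  hm := by rw [← hB, O.A.comm]; exact O.hm

theorem symm_U (hU : ∀ (l : F4), l ≠ 0 → ∀ (u v : V), b (l • u) (l • v) = b u v) :
    Op ρ b q w c a E D Y X m⁻¹ where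
  A := O.A
  P := O.Q
  Q := O.P
  one := by rw [O.A.comm]; exact O.one
  m0 := inv_ne_zero O.m0
  m1 := by
    intro h
    apply O.m1
    rw [← inv_inv m, h, inv_one]
  hm := by
    rw [← hU m O.m0, smul_smul, mul_inv_cancel₀ O.m0, one_smul, O.A.comm]
    exact O.hm

/-- `D(a) ∩ (F c)^⊥ ≠ 0` -/
theorem exists_U : ∃ u ∈ D, Perp b c u ∧ u ≠ 0 := by
  have _ := O.A.fin
  by_contra hc
  push Not at hc
  have h1 : D ⊓ perp b c = ⊥ := by
    rw [eq_bot_iff]
    rintro u ⟨hu, hp⟩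
    exact hc u hu hp
  have h2 := finrank_inf O.A O.P c
  rw [h1, finrank_bot] at h2
  have := O.A.seven
  omega

/-- the bilinear case is impossible -/
theorem not_B (hB : ∀ (l : F4) (u v : V), b (l • u) v = b u (l • v)) : False := by
  obtain ⟨u, hu, hp, hu0⟩ := O.exists_U
  have h1 := O.inv_mem hu hp
  have hpa : Perp b a (m⁻¹ • u) := O.A.perp_smul (O.P.perpD hu) _
  have h2 := (O.symm_B hB).inv_mem h1 hpa
  rw [smul_smul] at h2
  have hm2 : ∀ m : F4, m ≠ 0 → m ≠ 1 → m⁻¹ * m⁻¹ ≠ 0 ∧ m⁻¹ * m⁻¹ ≠ 1 := by decide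
  obtain ⟨h3, h4⟩ := hm2 m O.m0 O.m1
  obtain ⟨k, hk⟩ := O.P.inf h3 h4 hu h2
  rw [hk] at hp
  have := O.perp_ca hp
  rw [this, zero_smul] at hk
  exact hu0 hk

/-- `b` is hermitian -/
theorem isU : ∀ (l : F4), l ≠ 0 → ∀ (u v : V), b (l • u) (l • v) = b u v :=
  O.A.adj.resolve_left fun h => O.not_B h

theorem symm : Op ρ b q w c a E D Y X m⁻¹ := O.symm_U O.isU

end Op

end Cfsg.Agent.Omega.EH3.ETwo.Opp
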