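import Cfsg.Agent.Omega.EH3.Cons
import Cfsg.Agent.Omega.EH3.ETwo.Opp

/-!
# THEOREM E2, step (7): the input side (helper924)

From helper888's `Cfg ρ b q a D X w`, `7 ≤ w`, and `om ∈ End(V)`, `om² + om + 1 = 0`, normalised by `H`, self-adjoint or
isometric for `b`, not centralised by `X`: `Amb ρ b q w`, `Pt ρ b q w a D X0` (`X0 = C_X(om)`), the points `a^h`, and an
opposite pair `Op`.
-/

set_option autoImplicit false
set_option linter.unusedSectionVars false
set_option linter.style.haveILetI false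

namespace Cfsg.Agent.Omega.EH3.ETwo.Inst

open Module Cfsg.Agent.Omega.EH3.ETwo.Base Cfsg.Agent.Omega.EH3.ETwo.Map
  Cfsg.Agent.Omega.EH3.ETwo.Opp

variable {H V : Type*} [Group H] [AddCommGroup V] [Module (ZMod 2) V]
  {ρ : H →* (V ≃ₗ[ZMod 2] V)} {b : LinearMap.BilinForm (ZMod 2) V} {q : V → ZMod 2}
  {a : V} {D : Submodule (ZMod 2) V} {X : Subgroup H} {w : ℕ} {om : V →ₗ[ZMod 2] V}

/-- the hypotheses on `om` -/
structure Om (ρ : H →* (V ≃ₗ[ZMod 2] V)) (b : LinearMap.BilinForm (ZMod 2) V) (X : Subgroup H)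
    (om : V →ₗ[ZMod 2] V) : Prop where
  hom : ∀ v, om (om v) = om v + v
  norm : ∀ h, (∀ v, ρ h (om v) = om (ρ h v)) ∨ (∀ v, ρ h (om v) = om (om (ρ h v)))
  form : (∀ u v, b (om u) v = b u (om v)) ∨ (∀ u v, b (om u) (om v) = b u v)
  ne : ∃ x ∈ X, ¬ ∀ v, ρ x (om v) = om (ρ x v)

theorem rm (g h : H) (v : V) : ρ (g * h) v = ρ g (ρ h v) := by rw [map_mul]; rfl

theorem r1 (v : V) : ρ 1 v = v := by rw [map_one]; rfl

theorem ri (g : H) (v : V) : ρ g (ρ g⁻¹ v) = v := by
  rw [← rm, mul_inv_cancel, r1]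

theorem om3 (hom : ∀ v, om (om v) = om v + v) (v : V) : om (om (om v)) = v := by
  rw [hom, hom, add_right_comm, self_add, zero_add]

/-- `X_0 = C_X(om)` -/
def Xo (ρ : H →* (V ≃ₗ[ZMod 2] V)) (X : Subgroup H) (om : V →ₗ[ZMod 2] V) : Subgroup H where
  carrier := {x | x ∈ X ∧ ∀ v, ρ x (om v) = om (ρ x v)}
  one_mem' := ⟨X.one_mem, fun v => by rw [r1, r1]⟩
  mul_mem' := by
    rintro g h ⟨hg, hg'⟩ ⟨hh, hh'⟩
    exact ⟨X.mul_mem hg hh, fun v => by rw [rm, hh', hg', rm]⟩
  inv_mem' := by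
    rintro g ⟨hg, hg'⟩
    refine ⟨X.inv_mem hg, fun v => ?_⟩
    apply (ρ g).injective
    rw [hg', ri, ri]

theorem mem_Xo {x : H} : x ∈ Xo ρ X om ↔ x ∈ X ∧ ∀ v, ρ x (om v) = om (ρ x v) := Iff.rfl

section act

variable (hom : ∀ v, om (om v) = om v + v)

theorem o_smul (v : V) : letI := modOf om hom; (F4.o : F4) • v = 0 := rfl
theorem i_smul (v : V) : letI := modOf om hom; (F4.i : F4) • v = v := rfl
theorem w_smul (v : V) : letI := modOf om hom; (F4.w : F4) • v = om v := rfl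
theorem z_smul (v : V) : letI := modOf om hom; (F4.z : F4) • v = om v + v := rfl

theorem lin_of {h : H} (h1 : ∀ v, ρ h (om v) = om (ρ h v)) :
    letI := modOf om hom; Lin ρ h := by
  letI := modOf om hom
  intro l v
  cases l
  · rw [o_smul, o_smul, map_zero]
  · rw [i_smul, i_smul]
  · rw [w_smul, w_smul, h1]
  · rw [z_smul, z_smul, map_add, h1]

theorem of_lin {h : H} (h1 : letI := modOf om hom; Lin ρ h) : ∀ v, ρ h (om v) = om (ρ h v) := by
  letI := modOf om hom
  intro v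
  exact h1 F4.w v

theorem sem_of {h : H} (h1 : ∀ v, ρ h (om v) = om (om (ρ h v))) :
    letI := modOf om hom; Sem ρ h := by
  letI := modOf om hom
  intro l v
  cases l
  · rw [show (F4.o : F4) ^ 2 = F4.o by decide, o_smul, o_smul, map_zero]
  · rw [show (F4.i : F4) ^ 2 = F4.i by decide, i_smul, i_smul]
  · rw [show (F4.w : F4) ^ 2 = F4.z by decide, w_smul, z_smul, h1, hom]
  · rw [show (F4.z : F4) ^ 2 = F4.w by decide, z_smul, w_smul, map_add, h1, hom, add_self_add]

end act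

namespace Om

variable (O : Om ρ b X om)
include O

theorem lin_or (h : H) : letI := modOf om O.hom; Lin ρ h ∨ Sem ρ h := by
  rcases O.norm h with h1 | h1
  · exact Or.inl (lin_of O.hom h1)
  · exact Or.inr (sem_of O.hom h1)

/-- the ambient data -/
theorem amb0 (C : Cfg ρ b q a D X w) : letI := modOf om O.hom; Amb0 ρ b q w := by
  letI := modOf om O.hom
  have := C.finite_V
  refine ⟨C.finite_V, ?_, C.b_self, C.nondeg, C.q_add, C.q_inv, ?_⟩
  · have : Module.Finite (ZMod 2) V := Module.Finite.of_finite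
    have h1 := Module.natCard_eq_pow_finrank (K := ZMod 2) (V := V)
    rw [C.card_V, Nat.card_zmod] at h1
    exact (Nat.pow_right_injective (le_refl 2) h1).symm
  · rcases O.form with h1 | h1
    · left
      intro l u v
      cases l
      · rw [o_smul, o_smul, map_zero, map_zero, LinearMap.zero_apply]
      · rw [i_smul, i_smul]
      · rw [w_smul, w_smul, h1]
      · rw [z_smul, z_smul, map_add, map_add, LinearMap.add_apply, h1]
    · right
      intro l hl u v
      cases l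
      · exact absurd rfl hl
      · rw [i_smul, i_smul]
      · rw [w_smul, w_smul, h1]
      · rw [z_smul, z_smul, ← O.hom, ← O.hom, h1, h1]

/-- the ambient data -/
theorem amb (C : Cfg ρ b q a D X w) (h7 : 7 ≤ w) : letI := modOf om O.hom; Amb ρ b q w := by
  letI := modOf om O.hom
  exact { O.amb0 C with seven := h7 }

/-- `[om a, x] ∈ {0, a}` -/
theorem om_a (C : Cfg ρ b q a D X w) {x : H} (hx : x ∈ X) :
    (x ∈ Xo ρ X om ∧ ρ x (om a) = om a) ∨ (x ∉ Xo ρ X om ∧ ρ x (om a) = om a + a) := by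
  by_cases h1 : x ∈ Xo ρ X om
  · left
    refine ⟨h1, ?_⟩
    rw [h1.2, C.X_a hx]
  · right
    refine ⟨h1, ?_⟩
    rcases O.norm x with h2 | h2
    · exact absurd ⟨hx, h2⟩ h1
    · rw [h2, C.X_a hx, O.hom]

theorem om_a_mem (C : Cfg ρ b q a D X w) : om a ∈ D := by
  apply C.mem_D_of_fix_mod
  intro x hx
  rcases O.om_a C hx with ⟨-, h1⟩ | ⟨-, h1⟩
  · exact ⟨0, by rw [h1, zero_smul, self_add]⟩
  · exact ⟨1, by rw [h1, one_smul, add_right_comm, self_add, zero_add]⟩

/-- the product of two elements outside `X_0` -/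
theorem mul_mem {x y : H} (hx : x ∈ X) (hx' : x ∉ Xo ρ X om) (hy : y ∈ X)
    (hy' : y ∉ Xo ρ X om) : x * y ∈ Xo ρ X om := by
  refine ⟨X.mul_mem hx hy, fun v => ?_⟩
  rcases O.norm x with h1 | h1
  · exact absurd ⟨hx, h1⟩ hx'
  rcases O.norm y with h2 | h2
  · exact absurd ⟨hy, h2⟩ hy'
  rw [rm, h2, h1, h1, om3 O.hom, rm]

/-- `C_V(X_0) = {0, a, om a, om a + a}` -/
theorem cen (C : Cfg ρ b q a D X w) {v : V} (hv : ∀ y ∈ Xo ρ X om, ρ y v = v) :
    v = 0 ∨ v = a ∨ v = om a ∨ v = om a + a := by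
  obtain ⟨x, hx, hx1⟩ := O.ne
  have hx0 : x ∉ Xo ρ X om := fun h => hx1 h.2
  have hx2 : ∀ u, ρ x (om u) = om (om (ρ x u)) := by
    rcases O.norm x with h1 | h1
    · exact absurd h1 hx1
    · exact h1
  -- vectors `u + u^x` for `u` fixed by `X_0`
  have key : ∀ u, (∀ y ∈ Xo ρ X om, ρ y u = u) → ρ x u + u = 0 ∨ ρ x u + u = a := by
    intro u hu
    apply C.fix_X
    intro z hz
    by_cases h1 : z ∈ Xo ρ X om
    · rw [map_add, hu z h1, ← rm, C.X_comm hz hx, rm, hu z h1]
    · have h2 := hu _ (O.mul_mem hz h1 hx hx0)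
      rw [rm] at h2
      have h3 : ρ z u = ρ x u := by
        have h4 : ρ z (ρ z (ρ x u)) = ρ x u := by
          rw [← rm z z, C.X_sq z hz, r1]
        rw [← h4, h2]
      rw [map_add, h2, h3, add_comm]
  have h1 := key v hv
  have h2 := key (om v) (fun y hy => by rw [hy.2, hv y hy])
  rw [hx2, O.hom] at h2
  -- `om (ρ x v) + ρ x v + om v`
  have e : om (ρ x v) + ρ x v + om v = om (ρ x v + v) + (ρ x v + v) + v := by
    rw [map_add]
    have : om (ρ x v) + om v + (ρ x v + v) + v = om (ρ x v) + ρ x v + om v + (v + v) := by abel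
    rw [this, self_add, add_zero]
  rw [e] at h2
  rcases h1 with h1 | h1 <;> rcases h2 with h2 | h2 <;> rw [h1] at h2
  · left
    rw [map_zero, zero_add, zero_add] at h2
    exact h2
  · right; left
    rw [map_zero, zero_add, zero_add] at h2
    exact h2
  · right; right; right
    exact (eq_of_add h2).symm
  · right; right; left
    have h3 : om a + a + v + (om a + a) = a + (om a + a) := by rw [h2]
    have h4 : om a + a + v + (om a + a) = v := by
      have : om a + a + v + (om a + a) = (om a + om a) + (a + a) + v := by abel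
      rw [this, self_add, self_add, zero_add, zero_add]
    rw [h4] at h3
    rw [h3, add_left_comm, self_add, add_zero]

/-- the data at `a` -/
theorem pt (C : Cfg ρ b q a D X w) : letI := modOf om O.hom; Pt ρ b q w a D (Xo ρ X om) := by
  letI := modOf om O.hom
  have := C.finite_V
  have hD := O.om_a_mem C
  refine ⟨C.a_ne, ?_, C.q_D, fun d hd d' hd' => C.b_D hd hd', ?_, fun y hy => C.X_sq y hy.1,
    fun y hy => C.X_a hy.1, fun y hy d hd => C.X_D y hy.1 d hd, ?_,
    fun y hy v hv => C.X_perp y hy.1 v hv, fun y hy v hv h => C.X_semi y hy.1 v hv h,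
    fun h _ ha d hd => C.D_inv h ha d hd, ?_, ?_, ?_⟩
  · intro l
    cases l
    · rw [o_smul]; exact D.zero_mem
    · rw [i_smul]; exact C.a_mem
    · rw [w_smul]; exact hD
    · rw [z_smul]; exact D.add_mem hD C.a_mem
  · intro y hy
    exact lin_of O.hom hy.2
  · intro φ hφ
    have h1 : φ a = 0 := hφ F4.i
    have h2 : φ (om a) = 0 := hφ F4.w
    obtain ⟨x, hx, hxd⟩ := C.X_all φ h1
    refine ⟨x, ?_, hxd⟩
    have h3 := hxd _ hD
    rw [h2, zero_smul, add_zero] at h3
    rcases O.om_a C hx with ⟨h4, -⟩ | ⟨-, h4⟩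
    · exact h4
    · exfalso
      rw [h3] at h4
      exact C.a_ne (left_eq_add.1 h4)
  · intro h hh ha y hy
    refine ⟨C.X_norm h ha y hy.1, ?_⟩
    apply of_lin O.hom
    have h1 : Lin ρ y := lin_of O.hom hy.2
    exact (hh.mul h1).mul hh.inv
  · intro v hv
    rcases O.cen C hv with h | h | h | h
    · exact ⟨F4.o, by rw [o_smul]; exact h⟩
    · exact ⟨F4.i, by rw [i_smul]; exact h⟩
    · exact ⟨F4.w, by rw [w_smul]; exact h⟩
    · exact ⟨F4.z, by rw [z_smul]; exact h⟩
  · have : Module.Finite (ZMod 2) D := Module.Finite.of_finite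
    have h1 := Module.natCard_eq_pow_finrank (K := ZMod 2) (V := D)
    rw [C.card_D, Nat.card_zmod] at h1
    exact (Nat.pow_right_injective (le_refl 2) h1).symm

/-- the data at `a^h` -/
theorem pt_map0 (C : Cfg ρ b q a D X w) (h : H) : letI := modOf om O.hom;
    Pt ρ b q w (ρ h a) (D.map (ρ h : V →ₗ[ZMod 2] V))
      ((Xo ρ X om).map (MulAut.conj h).toMonoidHom) := by
  letI := modOf om O.hom
  exact map (O.amb0 C) (O.pt C) h (O.lin_or h)

/-- the data at `a^h` -/
theorem pt_map (C : Cfg ρ b q a D X w) (h7 : 7 ≤ w) (h : H) : letI := modOf om O.hom;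
    Pt ρ b q w (ρ h a) (D.map (ρ h : V →ₗ[ZMod 2] V))
      ((Xo ρ X om).map (MulAut.conj h).toMonoidHom) := by
  letI := modOf om O.hom
  exact map (O.amb C h7) (O.pt C) h (O.lin_or h)

/-- an opposite pair -/
theorem op (C : Cfg ρ b q a D X w) (h7 : 7 ≤ w) {h : H} (hh : b a (ρ h a) = 1) :
    letI := modOf om O.hom; ∃ m : F4,
      Op ρ b q w a (ρ h a) D (D.map (ρ h : V →ₗ[ZMod 2] V)) (Xo ρ X om)
        ((Xo ρ X om).map (MulAut.conj h).toMonoidHom) m := by
  letI := modOf om O.hom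
  obtain ⟨m, m0, m1, hm⟩ := exists_m hh
  exact ⟨m, O.amb C h7, O.pt C, O.pt_map C h7 h, hh, m0, m1, hm⟩

/-- there is an opposite pair -/
theorem exists_op (C : Cfg ρ b q a D X w) (h7 : 7 ≤ w) :
    letI := modOf om O.hom; ∃ (h : H) (m : F4),
      Op ρ b q w a (ρ h a) D (D.map (ρ h : V →ₗ[ZMod 2] V)) (Xo ρ X om)
        ((Xo ρ X om).map (MulAut.conj h).toMonoidHom) m := by
  letI := modOf om O.hom
  obtain ⟨h, hh⟩ := C.exists_opp
  obtain ⟨m, hm⟩ := O.op C h7 hh
  exact ⟨h, m, hm⟩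

/-- the form is of unitary type -/
theorem isU (C : Cfg ρ b q a D X w) (h7 : 7 ≤ w) : ∀ u v, b (om u) (om v) = b u v := by
  letI := modOf om O.hom
  obtain ⟨h, m, hm⟩ := O.exists_op C h7
  intro u v
  exact hm.isU F4.w (by decide) u v

end Om

end Cfsg.Agent.Omega.EH3.ETwo.Inst
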