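import Cfsg.Agent.Omega.EH3.ETwo.Base

/-!
# THEOREM E2, steps (2), (3)
-/

set_option autoImplicit false
set_option linter.unusedSectionVars false

namespace Cfsg.Agent.Omega.EH3.ETwo.Type

open Module Cfsg.Agent.Omega.EH3.ETwo.Base

variable {H V : Type*} [Group H] [AddCommGroup V] [Module (ZMod 2) V] [Module F4 V]
  {ρ : H →* (V ≃ₗ[ZMod 2] V)} {b : LinearMap.BilinForm (ZMod 2) V} {q : V → ZMod 2} {w : ℕ}
  {a e : V} {D E : Submodule (ZMod 2) V} {X Y : Subgroup H}

/-- `D ∩ (F e)^⊥` has codimension at most 2 in `D` -/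
theorem finrank_inf (A : Amb0 ρ b q w) (P : Pt ρ b q w a D X) (e : V) :
    w ≤ finrank (ZMod 2) ((D ⊓ perp b e : Submodule (ZMod 2) V)) + 2 := by
  have _ := A.fin
  have key : ∀ (U : Submodule (ZMod 2) V) (φ : V →ₗ[ZMod 2] ZMod 2),
      finrank (ZMod 2) U ≤ finrank (ZMod 2) (U ⊓ LinearMap.ker φ : Submodule (ZMod 2) V) + 1 := by
    intro U φ
    have h := LinearMap.finrank_range_add_finrank_ker (φ.domRestrict U)
    have h1 : finrank (ZMod 2) (LinearMap.range (φ.domRestrict U)) ≤ 1 := by
      have := Submodule.finrank_le (LinearMap.range (φ.domRestrict U))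
      rwa [finrank_self] at this
    have h2 : finrank (ZMod 2) (LinearMap.ker (φ.domRestrict U)) =
        finrank (ZMod 2) (U ⊓ LinearMap.ker φ : Submodule (ZMod 2) V) := by
      have e1 : (LinearMap.ker (φ.domRestrict U)).map U.subtype = U ⊓ LinearMap.ker φ := by
        ext v
        rw [Submodule.mem_map, Submodule.mem_inf, LinearMap.mem_ker]
        constructor
        · rintro ⟨⟨x, hx⟩, h1, rfl⟩
          exact ⟨hx, h1⟩
        · rintro ⟨hx, h1⟩
          exact ⟨⟨v, hx⟩, h1, rfl⟩
      rw [← e1]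
      exact (LinearEquiv.finrank_eq (Submodule.equivMapOfInjective _ U.injective_subtype _))
    omega
  have e1 : D ⊓ perp b e = D ⊓ LinearMap.ker (b e) ⊓ LinearMap.ker (b (F4.w • e)) := by
    ext v
    simp only [Submodule.mem_inf, LinearMap.mem_ker, mem_perp]
    constructor
    · rintro ⟨h1, h2⟩
      refine ⟨⟨h1, ?_⟩, h2 _⟩
      have := h2 1
      rwa [one_smul] at this
    · rintro ⟨⟨h1, h2⟩, h3⟩
      exact ⟨h1, perp_of_two A h2 h3⟩
  have h1 := key D (b e)
  have h2 := key (D ⊓ LinearMap.ker (b e)) (b (F4.w • e))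
  rw [← e1] at h2
  have := P.dim
  omega

/-- **(2)** every `e ∈ a^H`, `e ⊥ F a`, `e ∉ F a` lies in some `l⁻¹ D(a)` -/
theorem type_one (A : Amb ρ b q w) (P : Pt ρ b q w a D X) (Q : Pt ρ b q w e E Y)
    (hp : Perp b a e) (hne : ∀ l : F4, e ≠ l • a) : ∃ l : F4, l ≠ 0 ∧ l • e ∈ D := by
  have _ := A.fin
  by_contra hcon
  push Not at hcon
  have hpe := A.perp_symm hp
  obtain ⟨d1, hd1, d2, hd2, ha⟩ := Q.decomp A hpe
  -- the elements of `Y` fixing `a`
  have hS : ∀ y ∈ Y, ρ y a = a → ∀ v ∈ D, Perp b e v → ρ y v = v := by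
    intro y hy hya v hv hev
    obtain ⟨l, hl⟩ := Q.delta A hev hy
    have h1 := P.nD y (Q.lin y hy) hya v hv
    rw [hl] at h1
    have h2 : l • e ∈ D := by
      have := D.add_mem hv h1
      rwa [← add_assoc, self_add, zero_add] at this
    by_cases h0 : l = 0
    · rw [hl, h0, zero_smul, add_zero]
    · exact absurd h2 (hcon l h0)
  set W : Submodule (ZMod 2) V := line e ⊔ Submodule.span (ZMod 2) {d1, d2} with hW
  have hWF : ∀ l : F4, l • e ∈ W := fun l => Submodule.mem_sup_left (mem_line.2 ⟨l, rfl⟩)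
  have hW1 : d1 ∈ W := Submodule.mem_sup_right (Submodule.subset_span (by simp))
  have hW2 : d2 ∈ W := Submodule.mem_sup_right (Submodule.subset_span (by simp))
  set Z : Submodule (ZMod 2) V := W ⊔ sD F4.w W with hZ
  set D1 : Submodule (ZMod 2) V := D ⊓ perp b e with hD1
  have h1 : D1 ≤ Z := by
    rintro v ⟨hv, hev⟩
    obtain ⟨d, hd, d', hd', hdec⟩ := Q.decomp A hev
    have key : ∀ y ∈ Y, (∀ u ∈ W, u ∈ E → ρ y u = u) → ρ y d = d ∧ ρ y d' = d' := by
      intro y hy hfix
      have hya : ρ y a = a := by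
        rw [ha, map_add, Q.lin y hy, hfix d1 hW1 hd1, hfix d2 hW2 hd2]
      have h2 := hS y hy hya v hv hev
      rw [hdec, map_add, Q.lin y hy] at h2
      rcases Q.onD y hy d hd with h3 | h3 <;> rcases Q.onD y hy d' hd' with h4 | h4
      · exact ⟨h3, h4⟩
      · exfalso
        rw [h3, h4, smul_add, add_right_inj] at h2
        have h5 : F4.w • e = (0 : F4) • e := by rw [zero_smul]; exact left_eq_add.1 h2.symm
        exact absurd (Q.smul_eq h5) (by decide)
      · exfalso
        rw [h3, h4, add_left_inj] at h2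
        exact Q.ne (left_eq_add.1 h2.symm)
      · exfalso
        rw [h3, h4, smul_add] at h2
        have h6 : e + F4.w • e = 0 := by
          have h7 : d + F4.w • d' + (e + F4.w • e) = d + e + (F4.w • d' + F4.w • e) := by abel
          rw [h2] at h7
          exact left_eq_add.1 h7.symm
        have h7 : (F4.z : F4) • e = (0 : F4) • e := by
          have e1 : (F4.z : F4) = 1 + F4.w := rfl
          rw [e1, add_smul, one_smul, zero_smul, h6]
        exact absurd (Q.smul_eq h7) (by decide)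
    have hdW : d ∈ W := Q.double A hWF hd fun y hy hfix => (key y hy hfix).1
    have hdW' : d' ∈ W := Q.double A hWF hd' fun y hy hfix => (key y hy hfix).2
    rw [hdec]
    exact Submodule.add_mem_sup hdW (mem_sD.2 ⟨d', hdW', rfl⟩)
  have h2 : sD F4.w D1 ≤ Z := by
    rintro _ hx0
    obtain ⟨v, hv, rfl⟩ := mem_sD.1 hx0
    obtain ⟨x, hx, y, hy, rfl⟩ := Submodule.mem_sup.1 (h1 hv)
    obtain ⟨z, hz, rfl⟩ := mem_sD.1 hy
    have e1 : F4.w • (x + F4.w • z) = z + F4.w • (x + z) := by
      rw [smul_add, smul_smul]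
      have : (F4.w * F4.w : F4) = 1 + F4.w := rfl
      rw [this, add_smul, one_smul, smul_add]
      abel
    rw [e1]
    exact Submodule.add_mem_sup hz (mem_sD.2 ⟨_, W.add_mem hx hz, rfl⟩)
  -- dimension of `Z`
  have hZ6 : finrank (ZMod 2) Z ≤ 6 := by
    classical
    have h3 : Z ≤ Submodule.span (ZMod 2)
        (({e, F4.w • e, d1, d2, F4.w • d1, F4.w • d2} : Finset V) : Set V) := by
      have hWs : ∀ l : F4, l = 1 ∨ l = F4.w → ∀ x ∈ W, l • x ∈ Submodule.span (ZMod 2)
          (({e, F4.w • e, d1, d2, F4.w • d1, F4.w • d2} : Finset V) : Set V) := by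
        intro l hl x hx
        set T := Submodule.span (ZMod 2)
          (({e, F4.w • e, d1, d2, F4.w • d1, F4.w • d2} : Finset V) : Set V) with hT
        have he1 : e ∈ T := Submodule.subset_span (by simp)
        have he2 : F4.w • e ∈ T := Submodule.subset_span (by simp)
        have hd1T : d1 ∈ T := Submodule.subset_span (by simp)
        have hd2T : d2 ∈ T := Submodule.subset_span (by simp)
        have hd3T : F4.w • d1 ∈ T := Submodule.subset_span (by simp)
        have hd4T : F4.w • d2 ∈ T := Submodule.subset_span (by simp)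
        have hlT : W ≤ T.comap (sm l) := by
          refine sup_le ?_ ?_
          · rw [line, Submodule.span_le]
            intro x hx
            simp only [Set.mem_insert_iff, Set.mem_singleton_iff] at hx
            rcases hx with hx | hx
            · rw [hx]
              rcases hl with rfl | rfl
              · change (1 : F4) • e ∈ T
                rw [one_smul]; exact he1
              · exact he2
            · rw [hx]
              rcases hl with rfl | rfl
              · change (1 : F4) • (F4.w • e) ∈ T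
                rw [one_smul]; exact he2
              · change F4.w • (F4.w • e) ∈ T
                rw [smul_smul]
                have : (F4.w * F4.w : F4) = 1 + F4.w := rfl
                rw [this, add_smul, one_smul]
                exact T.add_mem he1 he2
          · rw [Submodule.span_le]
            intro x hx
            simp only [Set.mem_insert_iff, Set.mem_singleton_iff] at hx
            rcases hx with hx | hx
            · rw [hx]
              rcases hl with rfl | rfl
              · change (1 : F4) • d1 ∈ T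
                rw [one_smul]; exact hd1T
              · exact hd3T
            · rw [hx]
              rcases hl with rfl | rfl
              · change (1 : F4) • d2 ∈ T
                rw [one_smul]; exact hd2T
              · exact hd4T
        exact hlT hx
      refine sup_le (fun x hx => ?_) ?_
      · have := hWs 1 (Or.inl rfl) x hx
        rwa [one_smul] at this
      · intro x hx
        obtain ⟨z, hz, rfl⟩ := mem_sD.1 hx
        exact hWs _ (Or.inr rfl) z hz
    refine (Submodule.finrank_mono h3).trans ((finrank_span_finset_le_card _).trans ?_)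
    exact Finset.card_le_six
  have h3 := Submodule.finrank_sup_add_finrank_inf_eq D1 (sD F4.w D1)
  have h4 : D1 ⊓ sD F4.w D1 ≤ line a := by
    rw [← P.inf_sD]
    exact inf_le_inf inf_le_left (Submodule.map_mono inf_le_left)
  have h5 := Submodule.finrank_mono h4
  have h6 := finrank_line_le a
  rw [finrank_sD (by decide)] at h3
  have h7 := Submodule.finrank_mono (sup_le h1 h2)
  have h8 := finrank_inf A P e
  have h9 := A.seven
  rw [← hD1] at h8
  omega

/-- the commutator computation of (3) -/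
theorem beta_mem (A : Amb0 ρ b q w) (P : Pt ρ b q w a D X) (Q : Pt ρ b q w e E Y)
    (hp : Perp b a e) {l : F4} (hl0 : l ≠ 0) (hl : l • e ∈ D) (hne : ∀ l : F4, e ≠ l • a)
    {s : H} (hs : s ∈ Y) (hsa : ρ s a = a) {v : V} (hv : v ∈ D) (hev : Perp b e v) :
    ∃ k : F4, ρ s v = v + k • e ∧ (k * l⁻¹ = 0 ∨ k * l⁻¹ = 1) := by
  have _ := hp
  have hne' : ∀ k : F4, l • e ≠ k • a := by
    intro k h
    apply hne (l⁻¹ * k)
    rw [mul_smul, ← h, inv_smul_smul₀ hl0]
  obtain ⟨y, hy, hye⟩ := P.exists_move hl hne'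
  obtain ⟨k, hk⟩ := Q.delta A hev hs
  refine ⟨k, hk, ?_⟩
  have hye' : ρ y e = e + l⁻¹ • a := by
    have h1 := P.lin y hy l⁻¹ (l • e)
    rw [inv_smul_smul₀ hl0, hye, smul_add, inv_smul_smul₀ hl0] at h1
    exact h1
  have ht := P.nX s (Q.lin s hs) hsa y hy
  -- `v + δ_y v`
  have hv' : v ∈ D := hv
  obtain ⟨c1, hc1⟩ : ∃ c1 : F4, ρ y v = v + c1 • a := by
    rcases P.onD y hy v hv with h | h
    · exact ⟨0, by rw [h, zero_smul, add_zero]⟩
    · exact ⟨1, by rw [h, one_smul]⟩
  have hs1 : ρ s⁻¹ v = v + k • e := by rw [Q.inv_eq hs, hk]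
  have hs2 : ρ s e = e := Q.fix s hs
  have h1 : ρ (s * y * s⁻¹ * y⁻¹) v = v + (k * l⁻¹) • a := by
    have hyi : y⁻¹ = y := P.inv_eq hy
    have hsa' : ρ s⁻¹ a = a := by rw [Q.inv_eq hs, hsa]
    have e0 : ρ (s * y * s⁻¹ * y⁻¹) v = ρ s (ρ y (ρ s⁻¹ (ρ y⁻¹ v))) := by
      rw [ρ_mul, ρ_mul, ρ_mul]
    rw [e0, hyi, hc1, map_add (ρ s⁻¹), hs1, (Q.lin s hs).inv, hsa', map_add (ρ y), map_add (ρ y), hc1,
      P.lin y hy k, hye', P.fixF hy, map_add (ρ s), map_add (ρ s), map_add (ρ s), hk, Q.lin s hs,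
      hsa, Q.lin s hs, map_add (ρ s), hs2, Q.lin s hs, hsa, smul_add, smul_smul]
    have h2 := self_add (k • e)
    have h3 := self_add (c1 • a)
    calc v + k • e + c1 • a + (k • e + (k * l⁻¹) • a) + c1 • a
        = v + (k * l⁻¹) • a + (k • e + k • e) + (c1 • a + c1 • a) := by abel
      _ = _ := by rw [h2, h3, add_zero, add_zero]
  have hmem : s * y * s⁻¹ * y⁻¹ ∈ X := X.mul_mem ht (X.inv_mem hy)
  rcases P.onD _ hmem v hv with h2 | h2
  · left
    rw [h1] at h2
    have h3 : (k * l⁻¹) • a = (0 : F4) • a := by rw [zero_smul]; exact left_eq_add.1 h2.symm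
    exact P.smul_eq h3
  · right
    rw [h1] at h2
    have h3 : (k * l⁻¹) • a = (1 : F4) • a := by rw [one_smul]; exact add_left_cancel h2
    exact P.smul_eq h3

/-- one half of (3): `l⁻¹ v ∈ E + F a` for `v ∈ D`, `v ⊥ F e` -/
theorem half (A : Amb0 ρ b q w) (P : Pt ρ b q w a D X) (Q : Pt ρ b q w e E Y)
    (hp : Perp b a e) {l : F4} (hl0 : l ≠ 0) (hl : l • e ∈ D) (hne : ∀ l : F4, e ≠ l • a)
    {k : F4} (hk0 : k ≠ 0) (hk : k • a ∈ E) {v : V} (hv : v ∈ D) (hev : Perp b e v) :
    ∃ d ∈ E, ∃ t : F4, l⁻¹ • v = d + t • a := by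
  obtain ⟨d, hd, d', hd', hdec⟩ := Q.decomp A (A.perp_smul hev l⁻¹)
  set W : Submodule (ZMod 2) V := line e ⊔ Submodule.span (ZMod 2) {k • a} with hW
  have hWF : ∀ l : F4, l • e ∈ W := fun l => Submodule.mem_sup_left (mem_line.2 ⟨l, rfl⟩)
  have hWa : k • a ∈ W := Submodule.mem_sup_right (Submodule.subset_span rfl)
  have hdW : d' ∈ W := by
    refine Q.double A hWF hd' fun s hs hfix => ?_
    have hsa : ρ s a = a := by
      have h1 := hfix _ hWa hk
      rw [Q.lin s hs] at h1
      have h2 := congrArg (fun x => k⁻¹ • x) h1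
      simpa [inv_smul_smul₀ hk0] using h2
    obtain ⟨t, ht, ht'⟩ := beta_mem A P Q hp hl0 hl hne hs hsa hv hev
    have h3 : ρ s (l⁻¹ • v) = l⁻¹ • v + (t * l⁻¹) • e := by
      rw [Q.lin s hs, ht, smul_add, smul_smul, mul_comm]
    rw [hdec, map_add, Q.lin s hs] at h3
    rcases Q.onD s hs d' hd' with h5 | h5
    · exact h5
    exfalso
    have h6 : ∃ c : F4, (c = 0 ∨ c = 1) ∧ F4.w • e = c • e := by
      rcases Q.onD s hs d hd with h4 | h4
      · refine ⟨t * l⁻¹, ht', ?_⟩
        rw [h4, h5, smul_add, ← add_assoc] at h3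
        exact add_left_cancel h3
      · refine ⟨t * l⁻¹ + 1, ?_, ?_⟩
        · rcases ht' with h | h
          · right; rw [h]; rfl
          · left; rw [h]; rfl
        · rw [h4, h5, smul_add] at h3
          rw [add_smul, one_smul]
          have h7 : d + F4.w • d' + (e + F4.w • e) = d + F4.w • d' + (t * l⁻¹) • e := by
            rw [← h3]; abel
          have h8 := add_left_cancel h7
          rw [← h8, add_comm e, add_self_add]
    obtain ⟨c, hc, hce⟩ := h6
    have := Q.smul_eq hce
    rcases hc with rfl | rfl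
    · exact absurd this (by decide)
    · exact absurd this (by decide)
  obtain ⟨x, hx, y, hy, hxy⟩ := Submodule.mem_sup.1 hdW
  obtain ⟨c, rfl⟩ := mem_line.1 hx
  obtain ⟨t, rfl⟩ := Submodule.mem_span_singleton.1 hy
  refine ⟨d + F4.w • (c • e), ?_, F4.w * ((if t = 0 then 0 else 1) * k), ?_⟩
  · refine E.add_mem hd ?_
    rw [smul_smul]; exact Q.fmem _
  · rw [hdec, ← hxy, smul_add, ← add_assoc]
    congr 1
    rcases z2 t with rfl | rfl
    · simp
    · simp [smul_smul]

/-- **(3)** `ν(a, e) ν(e, a) = 1` -/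
theorem inv_type (A : Amb ρ b q w) (P : Pt ρ b q w a D X) (Q : Pt ρ b q w e E Y)
    (hp : Perp b a e) (hne : ∀ l : F4, e ≠ l • a) {l k : F4} (hl0 : l ≠ 0) (hl : l • e ∈ D)
    (hk0 : k ≠ 0) (hk : k • a ∈ E) : l * k = 1 := by
  have _ := A.fin
  have hpe := A.perp_symm hp
  have hne' : ∀ t : F4, a ≠ t • e := by
    intro t h
    by_cases ht : t = 0
    · rw [ht, zero_smul] at h; exact P.ne h
    · apply hne t⁻¹
      rw [h, inv_smul_smul₀ ht]
  by_contra hcon
  set κ : F4 := k⁻¹ * l⁻¹ with hκ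
  have hκ0 : κ ≠ 0 := mul_ne_zero (inv_ne_zero hk0) (inv_ne_zero hl0)
  have hκ1 : κ ≠ 1 := by
    intro h
    apply hcon
    have : (l * k)⁻¹ = 1 := by rw [mul_inv_rev, ← hκ, h]
    rw [← inv_inv (l * k), this, inv_one]
  have key : D ⊓ perp b e ≤ line a ⊔ Submodule.span (ZMod 2) {l • e} := by
    rintro v ⟨hv, hev⟩
    obtain ⟨d, hd, t, h1⟩ := half A P Q hp hl0 hl hne hk0 hk hv hev
    have hpd : Perp b a d := by
      have h2 : d = l⁻¹ • v + t • a := by rw [h1, add_self_add]
      rw [h2]
      exact perp_add (A.perp_smul (P.perpD hv) _) (A.perp_smul P.perp_self _)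
    obtain ⟨d3, hd3, t', h3⟩ := half A Q P hpe hk0 hk hne' hl0 hl hd hpd
    -- `κ v = d₄ + γ (l e)`
    have h4 : κ • v = (d3 + (k⁻¹ * t) • a) + (t' * l⁻¹) • (l • e) := by
      rw [hκ, mul_smul, h1, smul_add, h3, smul_smul, smul_smul, mul_assoc, inv_mul_cancel₀ hl0, mul_one]
      abel
    have hdec : ∀ κ γ : F4, κ ≠ 0 → κ ≠ 1 → ∃ g0 g1 : ZMod 2, γ = (if g0 = 0 then 0 else 1) +
        κ * (if g1 = 0 then 0 else 1) := by decide
    obtain ⟨g0, g1, hg⟩ := hdec κ (t' * l⁻¹) hκ0 hκ1
    have h5 : κ • (v + (if g1 = 0 then (0 : F4) else 1) • (l • e)) =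
        (d3 + (k⁻¹ * t) • a) + (if g0 = 0 then (0 : F4) else 1) • (l • e) := by
      rw [smul_add, h4, hg, add_smul, smul_smul κ]
      have := self_add ((κ * (if g1 = 0 then (0 : F4) else 1)) • (l • e))
      calc _ = (d3 + (k⁻¹ * t) • a) + (if g0 = 0 then (0 : F4) else 1) • (l • e) +
          ((κ * (if g1 = 0 then (0 : F4) else 1)) • (l • e) +
            (κ * (if g1 = 0 then (0 : F4) else 1)) • (l • e)) := by abel
        _ = _ := by rw [this, add_zero]
    have hif : ∀ g : ZMod 2, (if g = 0 then (0 : F4) else 1) • (l • e) ∈ D := by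
      intro g
      rcases z2 g with rfl | rfl
      · simp
      · simpa using hl
    have h6 : v + (if g1 = 0 then (0 : F4) else 1) • (l • e) ∈ D := D.add_mem hv (hif g1)
    have h7 : κ • (v + (if g1 = 0 then (0 : F4) else 1) • (l • e)) ∈ D := by
      rw [h5]
      exact D.add_mem (D.add_mem hd3 (P.fmem _)) (hif g0)
    obtain ⟨c, hc⟩ := P.inf hκ0 hκ1 h6 h7
    have h8 : v = c • a + g1 • (l • e) := by
      rw [← hc]
      rcases z2 g1 with rfl | rfl
      · simp
      · simp [add_self_add]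
    rw [h8]
    exact Submodule.add_mem_sup (mem_line.2 ⟨c, rfl⟩) (Submodule.smul_mem _ _ (Submodule.subset_span rfl))
  have h1 := Submodule.finrank_mono key
  have h2 := Submodule.finrank_sup_add_finrank_inf_eq (line a) (Submodule.span (ZMod 2) {l • e})
  have h3 := finrank_line_le a
  have h4 : finrank (ZMod 2) (Submodule.span (ZMod 2) {l • e}) ≤ 1 := by
    classical
    have := finrank_span_finset_le_card (R := ZMod 2) ({l • e} : Finset V)
    rw [Finset.card_singleton] at this
    rwa [Finset.coe_singleton] at this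
  have h5 := finrank_inf A P e
  have h6 := A.seven
  omega

end Cfsg.Agent.Omega.EH3.ETwo.Type
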