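import Cfsg.Agent.Omega.EH3.ETwo.Opp

/-!
# THEOREM E2, step (4), end: the `F₂`-form `V₀` of an opposite pair
-/

set_option autoImplicit false
set_option linter.unusedSectionVars false

namespace Cfsg.Agent.Omega.EH3.ETwo.V0

open Module Cfsg.Agent.Omega.EH3.ETwo.Base Cfsg.Agent.Omega.EH3.ETwo.Type
  Cfsg.Agent.Omega.EH3.ETwo.Map Cfsg.Agent.Omega.EH3.ETwo.Opp

variable {H V : Type*} [Group H] [AddCommGroup V] [Module (ZMod 2) V] [Module F4 V]
  {ρ : H →* (V ≃ₗ[ZMod 2] V)} {b : LinearMap.BilinForm (ZMod 2) V} {q : V → ZMod 2} {w : ℕ}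
  {a c : V} {D E : Submodule (ZMod 2) V} {X Y : Subgroup H} {m : F4}

/-- the coefficient of `1` -/
def re : F4 → ZMod 2
  | .o => 0
  | .i => 1
  | .w => 0
  | .z => 1

/-- the coefficient of `w` -/
def im : F4 → ZMod 2
  | .o => 0
  | .i => 0
  | .w => 1
  | .z => 1

theorem reim (k : F4) : k = cf (re k) + F4.w * cf (im k) := by revert k; decide

theorem smul_reim (k : F4) (v : V) : k • v = re k • v + F4.w • (im k • v) := by
  conv_lhs => rw [reim k]
  rw [add_smul, mul_smul, cf_smul, cf_smul]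

/-- the `F₂`-form -/
def V0 (b : LinearMap.BilinForm (ZMod 2) V) (a c : V) (D : Submodule (ZMod 2) V) (m : F4) :
    Submodule (ZMod 2) V :=
  (D ⊓ perp b c) ⊔ Submodule.span (ZMod 2) {a, m • c}

theorem mem_V0 {v : V} : v ∈ V0 b a c D m ↔
    ∃ u ∈ D, Perp b c u ∧ ∃ α γ : ZMod 2, v = u + (α • a + γ • (m • c)) := by
  rw [V0, Submodule.mem_sup]
  constructor
  · rintro ⟨u, ⟨hu, hp⟩, x, hx, rfl⟩
    obtain ⟨α, γ, rfl⟩ := Submodule.mem_span_pair.1 hx
    exact ⟨u, hu, hp, α, γ, rfl⟩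
  · rintro ⟨u, hu, hp, α, γ, rfl⟩
    exact ⟨u, ⟨hu, hp⟩, _, Submodule.mem_span_pair.2 ⟨α, γ, rfl⟩, rfl⟩

theorem U_mem {u : V} (hu : u ∈ D) (hp : Perp b c u) : u ∈ V0 b a c D m :=
  Submodule.mem_sup_left ⟨hu, hp⟩

theorem a_mem : a ∈ V0 b a c D m :=
  Submodule.mem_sup_right (Submodule.subset_span (by simp))

theorem mc_mem : m • c ∈ V0 b a c D m :=
  Submodule.mem_sup_right (Submodule.subset_span (by simp))

/-- `g(u, v) = b(ω u, v)` -/
def gf (b : LinearMap.BilinForm (ZMod 2) V) (u v : V) : ZMod 2 := b (F4.w • u) v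

theorem gf_add_left (u u' v : V) : gf b (u + u') v = gf b u v + gf b u' v := by
  rw [gf, smul_add, map_add, LinearMap.add_apply]; rfl

theorem gf_add_right (u v v' : V) : gf b u (v + v') = gf b u v + gf b u v' := by
  rw [gf, map_add]; rfl

variable (O : Op ρ b q w a c D E X Y m)
include O

/-! ### values of `b` and `g` -/

theorem b_U_a {u : V} (hu : u ∈ D) : b u a = 0 := O.P.bD _ hu _ O.P.mem

theorem b_U_mc {u : V} (hp : Perp b c u) : b u (m • c) = 0 := by
  rw [O.A.comm]; exact hp m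

theorem b_mc_mc (k l : F4) : b (k • c) (l • c) = 0 := O.A.perp_smul O.Q.perp_self l k

theorem b_aa (k l : F4) : b (k • a) (l • a) = 0 := O.A.perp_smul O.P.perp_self l k

/-- `b = 0` on `V₀` -/
theorem b_V0 {x y : V} (hx : x ∈ V0 b a c D m) (hy : y ∈ V0 b a c D m) : b x y = 0 := by
  obtain ⟨u, hu, hp, α, γ, rfl⟩ := mem_V0.1 hx
  obtain ⟨v, hv, hp', α', γ', rfl⟩ := mem_V0.1 hy
  have h1 : b u v = 0 := O.P.bD _ hu _ hv
  have h2 : b a v = 0 := by rw [O.A.comm]; exact b_U_a O hv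
  have h3 : b (m • c) v = 0 := hp' m
  have h4 : b u a = 0 := b_U_a O hu
  have h5 : b u (m • c) = 0 := b_U_mc O hp
  have h6 : b a a = 0 := O.A.b_self a
  have h7 : b (m • c) (m • c) = 0 := O.A.b_self _
  have h8 : b a (m • c) = 0 := O.hm
  have h9 : b (m • c) a = 0 := by rw [O.A.comm]; exact h8
  simp only [map_add, LinearMap.add_apply, map_smul, LinearMap.smul_apply, h1, h2, h3, h4, h5, h6, h7,
    h8, h9, smul_zero, add_zero]

theorem gf_a_mc : gf b a (m • c) = 1 := by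
  have h : gf b a (m • c) ≠ 0 := by
    intro h
    exact O.m0 (O.perp_ac (perp_of_two O.A.toAmb0 O.hm h))
  exact (z2 _).resolve_left h

theorem gf_mc_a : gf b (m • c) a = 1 := by
  have h1 := O.isU F4.z (by decide) (F4.w • (m • c)) a
  rw [smul_smul, show F4.z * F4.w = 1 by decide, one_smul, O.A.comm, add_one_smul, map_add,
    LinearMap.add_apply, O.hm, zero_add] at h1
  rw [gf, ← h1]
  exact gf_a_mc O

theorem gf_U_a {u : V} (hu : u ∈ D) : gf b u a = 0 := O.A.perp_symm (O.P.perpD hu) F4.w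

theorem gf_a_U {u : V} (hu : u ∈ D) : gf b a u = 0 := O.P.perpD hu F4.w

theorem gf_mc_U {u : V} (hp : Perp b c u) : gf b (m • c) u = 0 := by
  rw [gf, smul_smul]; exact hp _

theorem gf_U_mc {u : V} (hp : Perp b c u) : gf b u (m • c) = 0 :=
  O.A.perp_symm (O.A.smul_perp hp m) F4.w

theorem gf_aa : gf b a a = 0 := O.P.perp_self F4.w

theorem gf_mcmc : gf b (m • c) (m • c) = 0 := by
  rw [gf, smul_smul]; exact b_mc_mc O _ _

/-- `g` is symmetric on `V₀` -/
theorem gf_symm {x y : V} (hx : x ∈ V0 b a c D m) (hy : y ∈ V0 b a c D m) : gf b x y = gf b y x := by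
  have h1 := O.isU F4.w (by decide) (F4.w • x) y
  rw [smul_smul, show F4.w * F4.w = F4.z by decide, add_one_smul, map_add, LinearMap.add_apply] at h1
  have h2 : b (F4.w • x) (F4.w • y) = b x y := O.isU F4.w (by decide) x y
  rw [h2, b_V0 O hx hy, add_zero] at h1
  rw [gf, gf, ← h1, O.A.comm]

/-- `b (k x) (l y)` on `V₀` -/
theorem b_smul {x y : V} (hx : x ∈ V0 b a c D m) (hy : y ∈ V0 b a c D m) (k : F4) :
    b (k • x) y = im k * gf b x y := by
  rw [smul_reim, map_add, LinearMap.add_apply, map_smul, LinearMap.smul_apply, b_V0 O hx hy, smul_zero,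
    zero_add]
  rcases z2 (im k) with h | h
  · rw [h, zero_smul, smul_zero, map_zero, LinearMap.zero_apply, zero_mul]
  · rw [h, one_smul, one_mul]; rfl

/-! ### `V = V₀ ⊕ ω V₀` -/

/-- `V₀ ∩ ω V₀ = 0` -/
theorem inf_w {v : V} (hv : v ∈ V0 b a c D m) (h : F4.w • v ∈ V0 b a c D m) : v = 0 := by
  obtain ⟨u, hu, hp, α, γ, rfl⟩ := mem_V0.1 hv
  obtain ⟨u', hu', hp', α', γ', h'⟩ := mem_V0.1 h
  rw [smul_add, smul_add, ← cf_smul, ← cf_smul, ← cf_smul, ← cf_smul, smul_smul, smul_smul, smul_smul] at h'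
  -- the coefficient of `a`
  have h1 : F4.w • u + u' + ((F4.w * cf γ * m) • c + cf γ' • (m • c)) + (F4.w * cf α + cf α') • a = 0 := by
    have h2 := self_add (F4.w • u + ((F4.w * cf α) • a + (F4.w * cf γ * m) • c))
    nth_rewrite 2 [h'] at h2
    rw [← h2, add_smul]; abel
  have h2 : (F4.w * cf α + cf α') = 0 := by
    apply O.perp_ca
    have h3 : Perp b c (F4.w • u + u' + ((F4.w * cf γ * m) • c + cf γ' • (m • c))) := by
      refine perp_add (perp_add (O.A.perp_smul hp _) hp') (perp_add (O.A.perp_smul O.Q.perp_self _) ?_)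
      rw [smul_smul]
      exact O.A.perp_smul O.Q.perp_self _
    have h4 := perp_add h3 (show Perp b c (0 : V) from (perp b c).zero_mem)
    rw [← h1, self_add_add] at h4
    exact h4
  have h3 : α = 0 := by
    have : ∀ α α' : ZMod 2, F4.w * cf α + cf α' = 0 → α = 0 := by decide
    exact this _ _ h2
  have h4 : F4.w * cf γ * m + cf γ' * m = 0 := by
    apply O.perp_ac
    have h5 : Perp b a (F4.w • u + u' + (F4.w * cf α + cf α') • a) :=
      perp_add (perp_add (O.A.perp_smul (O.P.perpD hu) _) (O.P.perpD hu')) (O.A.perp_smul O.P.perp_self _)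
    have h6 := perp_add h5 (show Perp b a (0 : V) from (perp b a).zero_mem)
    have h7 : F4.w • u + u' + (F4.w * cf α + cf α') • a + (F4.w * cf γ * m + cf γ' * m) • c = 0 := by
      rw [← h1, smul_smul, add_smul (F4.w * cf γ * m)]; abel
    rw [← h7, self_add_add] at h6
    exact h6
  have h5 : γ = 0 := by
    have : ∀ (m : F4) (γ γ' : ZMod 2), m ≠ 0 → F4.w * cf γ * m + cf γ' * m = 0 → γ = 0 := by decide
    exact this _ _ _ O.m0 h4
  have h6 : α' = 0 := by
    have : ∀ α α' : ZMod 2, F4.w * cf α + cf α' = 0 → α' = 0 := by decide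
    exact this _ _ h2
  have h7 : γ' = 0 := by
    have : ∀ (m : F4) (γ γ' : ZMod 2), m ≠ 0 → F4.w * cf γ * m + cf γ' * m = 0 → γ' = 0 := by decide
    exact this _ _ _ O.m0 h4
  rw [h3, h5, zero_smul, zero_smul, add_zero, add_zero] at h ⊢
  rw [h3, h5, h6, h7] at h'
  have h8 : F4.w • u = u' := by simpa [cf] using h'
  obtain ⟨k, hk⟩ := O.P.inf (l := F4.w) (by decide) (by decide) hu (by rw [h8]; exact hu')
  rw [hk] at hp ⊢
  rw [O.perp_ca hp, zero_smul]

theorem im_zero {v : V} (hv : v ∈ V0 b a c D m) {k : F4} (h : k • v ∈ V0 b a c D m) : im k • v = 0 := by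
  apply inf_w O ((V0 b a c D m).smul_mem _ hv)
  have h1 := (V0 b a c D m).add_mem h ((V0 b a c D m).smul_mem (re k) hv)
  rw [smul_reim, add_comm (re k • v), add_self_add] at h1
  exact h1

theorem im_two {x y : V} (hx : x ∈ V0 b a c D m) (hy : y ∈ V0 b a c D m) {k l : F4}
    (h : k • x + l • y ∈ V0 b a c D m) : im k • x + im l • y = 0 := by
  apply inf_w O ((V0 b a c D m).add_mem ((V0 b a c D m).smul_mem _ hx) ((V0 b a c D m).smul_mem _ hy))
  have h1 := (V0 b a c D m).add_mem h ((V0 b a c D m).add_mem ((V0 b a c D m).smul_mem (re k) hx)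
    ((V0 b a c D m).smul_mem (re l) hy))
  have h2 : k • x + l • y + (re k • x + re l • y) = F4.w • (im k • x + im l • y) := by
    rw [smul_reim k x, smul_reim l y, smul_add]
    have h3 := self_add (re k • x + re l • y)
    calc _ = F4.w • (im k • x) + F4.w • (im l • y) +
          (re k • x + re l • y + (re k • x + re l • y)) := by abel
      _ = _ := by rw [h3, add_zero]
  rwa [h2] at h1

theorem im_three {x y z : V} (hx : x ∈ V0 b a c D m) (hy : y ∈ V0 b a c D m) (hz : z ∈ V0 b a c D m)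
    {k l n : F4} (h : k • x + l • y + n • z ∈ V0 b a c D m) : im k • x + im l • y + im n • z = 0 := by
  set W := V0 b a c D m with hW
  apply inf_w O (W.add_mem (W.add_mem (W.smul_mem _ hx) (W.smul_mem _ hy)) (W.smul_mem _ hz))
  have h1 := W.add_mem h (W.add_mem (W.add_mem (W.smul_mem (re k) hx) (W.smul_mem (re l) hy))
    (W.smul_mem (re n) hz))
  have h2 : k • x + l • y + n • z + (re k • x + re l • y + re n • z) =
      F4.w • (im k • x + im l • y + im n • z) := by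
    rw [smul_reim k x, smul_reim l y, smul_reim n z, smul_add, smul_add]
    have h3 := self_add (re k • x + re l • y + re n • z)
    calc _ = F4.w • (im k • x) + F4.w • (im l • y) + F4.w • (im n • z) +
          (re k • x + re l • y + re n • z + (re k • x + re l • y + re n • z)) := by abel
      _ = _ := by rw [h3, add_zero]
  rwa [h2] at h1

/-- `D = F a + U_a` -/
theorem dec_D {d : V} (hd : d ∈ D) : ∃ l : F4, ∃ u ∈ D, Perp b c u ∧ d = l • a + u := by
  obtain ⟨l, hl⟩ := O.proj d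
  exact ⟨l, d + l • a, D.add_mem hd (O.P.fmem l), hl, by rw [add_comm d, self_add_add]⟩

theorem exists_dec (v : V) : ∃ x ∈ V0 b a c D m, ∃ y ∈ V0 b a c D m, v = x + F4.w • y := by
  obtain ⟨l, hl⟩ := O.proj v
  obtain ⟨k, hk⟩ := O.symm.proj (v + l • a)
  obtain ⟨d, hd, d', hd', h1⟩ := O.P.decomp O.A hk
  obtain ⟨l1, u1, hu1, hp1, rfl⟩ := dec_D O hd
  obtain ⟨l2, u2, hu2, hp2, rfl⟩ := dec_D O hd'
  have h2 : v = u1 + F4.w • u2 + (l1 + F4.w * l2 + l) • a + (k * m⁻¹) • (m • c) := by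
    have h3 : v = v + l • a + k • c + l • a + k • c := by
      have h4 := self_add (l • a)
      have h5 := self_add (k • c)
      calc v = v + (l • a + l • a) + (k • c + k • c) := by rw [h4, h5, add_zero, add_zero]
        _ = _ := by abel
    rw [h3, h1, smul_smul, mul_assoc, inv_mul_cancel₀ O.m0, mul_one, add_smul, add_smul, smul_add,
      smul_smul]
    abel
  set l3 := l1 + F4.w * l2 + l with hl3
  set k' := k * m⁻¹ with hk'
  refine ⟨u1 + (re l3 • a + re k' • (m • c)), mem_V0.2 ⟨u1, hu1, hp1, _, _, rfl⟩,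
    u2 + (im l3 • a + im k' • (m • c)), mem_V0.2 ⟨u2, hu2, hp2, _, _, rfl⟩, ?_⟩
  rw [h2, smul_reim l3 a, smul_reim k' (m • c), smul_add, smul_add]
  abel

/-- `g` is nondegenerate on `V₀` -/
theorem gf_nondeg {u : V} (hu : u ∈ V0 b a c D m) (h : ∀ v ∈ V0 b a c D m, gf b u v = 0) : u = 0 := by
  have h1 : F4.w • u = 0 := by
    apply O.A.nondeg
    intro v
    obtain ⟨x, hx, y, hy, rfl⟩ := exists_dec O v
    rw [map_add, O.isU F4.w (by decide), b_V0 O hu hy, add_zero]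
    exact h x hx
  rcases smul_eq_zero.1 h1 with h2 | h2
  · exact absurd h2 (by decide)
  · exact h2

/-- for `u ≠ 0` in `U_a` there is `u' ∈ U_a` with `g(u, u') = 1` -/
theorem exists_g {u : V} (hu : u ∈ D) (hp : Perp b c u) (h0 : u ≠ 0) :
    ∃ u' ∈ D, Perp b c u' ∧ gf b u u' = 1 := by
  by_contra hc
  push Not at hc
  apply h0
  apply gf_nondeg O (U_mem hu hp)
  intro v hv
  obtain ⟨u', hu', hp', α, γ, rfl⟩ := mem_V0.1 hv
  have h1 : gf b u u' = 0 := (z2 _).resolve_right (hc u' hu' hp')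
  have h2 : ∀ (k : ZMod 2) (v : V), gf b u (k • v) = k * gf b u v := by
    intro k v; rw [gf, map_smul]; rfl
  rw [gf_add_right, gf_add_right, h2, h2, h1, gf_U_a O hu, gf_U_mc O hp, mul_zero, mul_zero, add_zero,
    add_zero]

/-! ### the elements of `Y` -/

/-- `s` maps `a` to `a + u + κ m c` -/
def R (ρ : H →* (V ≃ₗ[ZMod 2] V)) (a c : V) (Y : Subgroup H) (m : F4) (u : V) (κ : ZMod 2) (s : H) : Prop :=
  s ∈ Y ∧ ρ s a = a + u + κ • (m • c)

theorem exists_R {u : V} (hu : u ∈ D) (hp : Perp b c u) : ∃ κ s, R ρ a c Y m u κ s := by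
  obtain ⟨s, hs, h⟩ := O.symm.surj (O.inv_mem hu hp) (O.A.perp_smul (O.P.perpD hu) _)
  refine ⟨Op.kap b ρ c a m⁻¹ s, s, hs, ?_⟩
  have h1 : Op.dl ρ a s = u + Op.kap b ρ c a m⁻¹ s • (m • c) := by
    have := congrArg (fun x => m • x) h
    simp only [smul_add, smul_inv_smul₀ O.m0] at this
    rw [this, ← cf_smul, ← cf_smul, smul_smul, smul_smul, mul_comm]
  rw [O.symm.ρ_c s, h1, add_assoc]

theorem R_dl {u : V} {κ : ZMod 2} {s : H} (h : R ρ a c Y m u κ s) : Op.dl ρ a s = u + κ • (m • c) := by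
  have := O.m0
  rw [Op.dl, h.2, add_assoc a, add_comm a, add_self_add]

/-- `s` on `U_a` -/
theorem R_U {u : V} (hu : u ∈ D) (hp : Perp b c u) {κ : ZMod 2} {s : H} (h : R ρ a c Y m u κ s)
    {u' : V} (hu' : u' ∈ D) (hp' : Perp b c u') : ρ s u' = u' + gf b u u' • (m • c) := by
  have h1 : ∃ k : ZMod 2, ρ s u' = u' + k • (m • c) := by
    rcases O.Q.onD s h.1 _ (O.inv_mem hu' hp') with h2 | h2
    · refine ⟨0, ?_⟩
      rw [O.Q.lin s h.1] at h2
      have := congrArg (fun x => m • x) h2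
      simp only [smul_inv_smul₀ O.m0] at this
      rw [this, zero_smul, add_zero]
    · refine ⟨1, ?_⟩
      rw [O.Q.lin s h.1] at h2
      have := congrArg (fun x => m • x) h2
      simp only [smul_inv_smul₀ O.m0, smul_add] at this
      rw [this, one_smul]
  obtain ⟨k, hk⟩ := h1
  have h2 := O.A.b_inv s (F4.w • a) u'
  have h3 : b (F4.w • a) u' = 0 := gf_a_U O hu'
  have h4 : ∀ (l : ZMod 2) (v : V), F4.w • (l • v) = l • (F4.w • v) := by
    intro l v
    rw [← cf_smul, ← cf_smul, smul_smul, smul_smul, mul_comm]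
  have e1 : b (F4.w • a) (m • c) = 1 := gf_a_mc O
  have e2 : b (F4.w • u) (m • c) = 0 := gf_U_mc O hp
  have e3 : b (F4.w • (m • c)) u' = 0 := gf_mc_U O hp'
  have e4 : b (F4.w • (m • c)) (m • c) = 0 := gf_mcmc O
  rw [O.Q.lin s h.1, h.2, hk, h3, smul_add, smul_add, h4] at h2
  simp only [map_add, LinearMap.add_apply, map_smul, LinearMap.smul_apply, h3, e1, e2, e3, e4, smul_eq_mul,
    mul_zero, mul_one, add_zero, zero_add] at h2
  have h5 : k = gf b u u' := by
    have : gf b u u' + k = 0 := by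
      rw [gf, ← h2]; try abel
    exact (CharTwo.add_eq_zero.1 this).symm
  rw [hk, h5]

theorem R_mul {u : V} (hu : u ∈ D) (hp : Perp b c u) {κ : ZMod 2} {s : H} (h : R ρ a c Y m u κ s)
    {u' : V} (hu' : u' ∈ D) (hp' : Perp b c u') {κ' : ZMod 2} {s' : H} (h' : R ρ a c Y m u' κ' s') :
    R ρ a c Y m (u + u') (κ + κ' + gf b u u') (s * s') := by
  refine ⟨Y.mul_mem h.1 h'.1, ?_⟩
  have h1 : ρ s (m • c) = m • c := O.Q.fixF h.1 m
  rw [ρ_mul, h'.2, map_add, map_add, map_smul, h.2, R_U O hu hp h hu' hp', h1, add_smul, add_smul]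
  abel

theorem R_one {κ : ZMod 2} {s : H} (h : R ρ a c Y m 0 κ s) : κ = 0 ∧ s = 1 := by
  have h1 := R_dl O h
  rw [zero_add] at h1
  have h2 : m⁻¹ • Op.dl ρ a s = (m⁻¹ * cf κ * m) • c := by
    rw [h1, ← cf_smul, smul_smul, smul_smul]
  have h3 := O.symm.dl_line h.1 h2
  refine ⟨?_, h3⟩
  rcases z2 κ with h4 | h4
  · exact h4
  · exfalso
    rw [h3, Op.dl, ρ_one, self_add, h4, one_smul] at h1
    rcases smul_eq_zero.1 h1.symm with h5 | h5
    · exact O.m0 h5
    · exact O.Q.ne h5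

theorem gf_self {u : V} (hu : u ∈ D) (hp : Perp b c u) : gf b u u = 0 := by
  obtain ⟨κ, s, h⟩ := exists_R O hu hp
  have h1 := R_mul O hu hp h hu hp h
  rw [self_add, CharTwo.add_self_eq_zero, zero_add] at h1
  exact (R_one O h1).1

theorem R_unique {u : V} (hu : u ∈ D) (hp : Perp b c u) {κ : ZMod 2} {s : H} (h : R ρ a c Y m u κ s)
    {κ' : ZMod 2} {s' : H} (h' : R ρ a c Y m u κ' s') : κ = κ' := by
  have h1 := R_mul O hu hp h hu hp h'
  rw [self_add, gf_self O hu hp, add_zero] at h1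
  exact CharTwo.add_eq_zero.1 (R_one O h1).1

omit O in
/-- the quadratic form on `U_a` -/
noncomputable def Qf (ρ : H →* (V ≃ₗ[ZMod 2] V)) (a c : V) (Y : Subgroup H) (m : F4) (u : V) : ZMod 2 := by
  classical
  exact if ∃ s, R ρ a c Y m u 0 s then 0 else 1

theorem Qf_spec {u : V} (hu : u ∈ D) (hp : Perp b c u) : ∃ s, R ρ a c Y m u (Qf ρ a c Y m u) s := by
  classical
  rw [Qf]
  split_ifs with h
  · exact h
  · obtain ⟨κ, s, h1⟩ := exists_R O hu hp
    rcases z2 κ with rfl | rfl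
    · exact absurd ⟨s, h1⟩ h
    · exact ⟨s, h1⟩

theorem Qf_add {u u' : V} (hu : u ∈ D) (hp : Perp b c u) (hu' : u' ∈ D) (hp' : Perp b c u') :
    Qf ρ a c Y m (u + u') = Qf ρ a c Y m u + Qf ρ a c Y m u' + gf b u u' := by
  obtain ⟨s, h⟩ := Qf_spec O hu hp
  obtain ⟨s', h'⟩ := Qf_spec O hu' hp'
  obtain ⟨s'', h''⟩ := Qf_spec O (D.add_mem hu hu') (perp_add hp hp')
  exact R_unique O (D.add_mem hu hu') (perp_add hp hp') h'' (R_mul O hu hp h hu' hp' h')

/-! ### invariance -/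

theorem X_V0 {y : H} (hy : y ∈ X) {v : V} (hv : v ∈ V0 b a c D m) : ρ y v ∈ V0 b a c D m := by
  obtain ⟨u, hu, hp, α, γ, rfl⟩ := mem_V0.1 hv
  set W := V0 b a c D m with hW
  have h1 : ρ y u ∈ W := by
    rcases O.P.onD y hy u hu with h | h
    · rw [h]; exact U_mem hu hp
    · rw [h]; exact W.add_mem (U_mem hu hp) a_mem
  have h2 : ρ y a ∈ W := by rw [O.P.fix y hy]; exact a_mem
  have h3 : ρ y (m • c) ∈ W := by
    rw [O.P.lin y hy, O.ρ_c y, smul_add]
    refine W.add_mem mc_mem ?_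
    have h4 := W.add_mem (U_mem (a := a) (m := m) (D.add_mem (O.dl_mem hy) (O.P.fmem _)) (O.kap_spec hy))
      (W.smul_mem (Op.kap b ρ a c m y) a_mem)
    rw [cf_smul, add_self_add] at h4
    exact h4
  rw [map_add, map_add, map_smul, map_smul]
  exact W.add_mem h1 (W.add_mem (W.smul_mem _ h2) (W.smul_mem _ h3))

theorem Y_V0 {s : H} (hs : s ∈ Y) {v : V} (hv : v ∈ V0 b a c D m) : ρ s v ∈ V0 b a c D m := by
  obtain ⟨u, hu, hp, α, γ, rfl⟩ := mem_V0.1 hv
  set W := V0 b a c D m with hW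
  have h1 : ρ s u ∈ W := by
    rcases O.Q.onD s hs _ (O.inv_mem hu hp) with h2 | h2
    · rw [O.Q.lin s hs] at h2
      have := congrArg (fun x => m • x) h2
      simp only [smul_inv_smul₀ O.m0] at this
      rw [this]; exact U_mem hu hp
    · rw [O.Q.lin s hs] at h2
      have := congrArg (fun x => m • x) h2
      simp only [smul_inv_smul₀ O.m0, smul_add] at this
      rw [this]; exact W.add_mem (U_mem hu hp) mc_mem
  have h2 : ρ s a ∈ W := by
    have h3 := O.symm.kap_spec hs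
    have h4 : m⁻¹ • Op.dl ρ a s + cf (Op.kap b ρ c a m⁻¹ s) • c ∈ E := E.add_mem (O.symm.dl_mem hs) (O.Q.fmem _)
    have h5 := O.symm.inv_mem h4 h3
    rw [inv_inv] at h5
    have h6 : Perp b c (m • (m⁻¹ • Op.dl ρ a s + cf (Op.kap b ρ c a m⁻¹ s) • c)) :=
      O.A.perp_smul (O.Q.perpD h4) _
    have h7 := W.add_mem (W.add_mem (U_mem (a := a) (m := m) h5 h6)
      (W.smul_mem (Op.kap b ρ c a m⁻¹ s) mc_mem)) a_mem
    have h8 : m • (m⁻¹ • Op.dl ρ a s + cf (Op.kap b ρ c a m⁻¹ s) • c) + Op.kap b ρ c a m⁻¹ s • m • c + a = ρ s a := by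
      rw [O.symm.ρ_c s, smul_add, smul_inv_smul₀ O.m0, ← cf_smul (Op.kap b ρ c a m⁻¹ s) (m • c), smul_smul,
        smul_smul, mul_comm m, add_self_add, add_comm]
    rwa [h8] at h7
  have h3 : ρ s (m • c) ∈ W := by rw [O.Q.fixF hs]; exact mc_mem
  rw [map_add, map_add, map_smul, map_smul]
  exact W.add_mem h1 (W.add_mem (W.smul_mem _ h2) (W.smul_mem _ h3))

theorem V0_ne_bot : V0 b a c D m ≠ ⊥ := by
  intro h
  have h1 : a ∈ V0 b a c D m := a_mem
  rw [h] at h1
  exact O.P.ne ((Submodule.mem_bot _).1 h1)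

theorem V0_ne_top : V0 b a c D m ≠ ⊤ := by
  intro h
  exact O.P.ne (inf_w O a_mem (by rw [h]; trivial))

end Cfsg.Agent.Omega.EH3.ETwo.V0
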